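import Mathlib.GroupTheory.Sylow
import Mathlib.GroupTheory.Frattini
import Mathlib.GroupTheory.IndexNormal
import Mathlib.GroupTheory.SpecificGroups.Cyclic
import Mathlib.Tactic

/-!
# Finite `p`-groups: maximal subgroups, normal subgroups, the Frattini subgroup
-/

set_option autoImplicit false

open Subgroup
open scoped commutatorElement

namespace Cfsg.Agent.PGroup

variable {G : Type*} [Group G] [Finite G] {p : ℕ} [hp : Fact p.Prime]

/-- The order of a subgroup of a finite `p`-group is a power of `p`. -/
theorem exists_card_eq_pow (hG : IsPGroup p G) (H : Subgroup G) : ∃ n, Nat.card H = p ^ n :=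
  IsPGroup.iff_card.mp (hG.to_subgroup H)

theorem dvd_card_of_ne_bot (hG : IsPGroup p G) {H : Subgroup G} (h : H ≠ ⊥) : p ∣ Nat.card H :=
  (hG.to_subgroup H).card_eq_or_dvd.resolve_left fun h1 => h (H.eq_bot_of_card_eq h1)

theorem le_card_of_ne_bot (hG : IsPGroup p G) {H : Subgroup G} (h : H ≠ ⊥) : p ≤ Nat.card H :=
  Nat.le_of_dvd Nat.card_pos (dvd_card_of_ne_bot hG h)

/-- An element of a `p`-group with `g ^ m = 1`, `m` prime to `p`, is trivial. -/
theorem eq_one_of_pow_coprime (hG : IsPGroup p G) {g : G} {m : ℕ} (hm : p.Coprime m)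
    (h : g ^ m = 1) : g = 1 :=
  (hG.powEquiv hm).injective (by simp [h])

/-- A non-trivial finite group has an element of prime order `p` as soon as it is a `p`-group. -/
theorem exists_mem_pow_eq_one (hG : IsPGroup p G) {H : Subgroup G} (h : H ≠ ⊥) :
    ∃ x ∈ H, x ≠ 1 ∧ x ^ p = 1 := by
  obtain ⟨x, hx⟩ := exists_prime_orderOf_dvd_card' p (dvd_card_of_ne_bot hG h)
  refine ⟨x, x.2, fun h1 => ?_, ?_⟩
  · rw [show x = 1 from Subtype.ext h1, orderOf_one] at hx
    exact hp.out.one_lt.ne hx
  · have := pow_orderOf_eq_one x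
    rw [hx] at this
    exact_mod_cast congrArg Subtype.val this

/-- A non-trivial normal subgroup of a finite `p`-group meets the centre non-trivially. -/
theorem inf_center_ne_bot (hG : IsPGroup p G) {N : Subgroup G} [hN : N.Normal] (h : N ≠ ⊥) :
    N ⊓ center G ≠ ⊥ := by
  classical
  intro hb
  have hG' : IsPGroup p (ConjAct G) := hG.of_equiv ConjAct.toConjAct
  have hfix : (1 : N) ∈ MulAction.fixedPoints (ConjAct G) N := fun g => smul_one g
  obtain ⟨b, hb', hb1⟩ := hG'.exists_fixed_point_of_prime_dvd_card_of_fixed_point N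
    (dvd_card_of_ne_bot hG h) hfix
  apply hb1
  have hmem : (b : G) ∈ N ⊓ center G := by
    refine ⟨b.2, mem_center_iff.mpr fun g => ?_⟩
    have := congrArg Subtype.val (hb' (ConjAct.toConjAct g))
    rw [ConjAct.Subgroup.val_conj_smul, ConjAct.toConjAct_smul] at this
    exact mul_inv_eq_iff_eq_mul.mp this
  rw [hb, mem_bot] at hmem
  exact (Subtype.ext hmem).symm

/-- A normal subgroup of order `p` of a finite `p`-group is central. -/
theorem le_center_of_card_eq_prime (hG : IsPGroup p G) {N : Subgroup G} [N.Normal]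
    (h : Nat.card N = p) : N ≤ center G := by
  have hne : N ≠ ⊥ := fun hb => by rw [hb, card_bot] at h; exact hp.out.one_lt.ne h
  have h1 := inf_center_ne_bot hG hne
  have h2 : N ⊓ center G = N := by
    refine eq_of_le_of_card_ge inf_le_left ?_
    rw [h]
    exact le_card_of_ne_bot hG h1
  exact h2 ▸ inf_le_right

/-- A proper subgroup of a finite `p`-group is properly contained in its normalizer. -/
theorem lt_normalizer (hG : IsPGroup p G) {H : Subgroup G} (h : H ≠ ⊤) :
    H < normalizer (H : Set G) := by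
  have := hG.isNilpotent
  exact Group.normalizerCondition_of_isNilpotent H h.lt_top

/-- Maximal subgroups of a finite `p`-group are normal. -/
theorem normal_of_isCoatom (hG : IsPGroup p G) {M : Subgroup G} (hM : IsCoatom M) : M.Normal := by
  have := hG.isNilpotent
  exact Group.normalizerCondition_of_isNilpotent.normal_of_coatom M hM

/-- Maximal subgroups of a finite `p`-group have index `p`. -/
theorem index_eq_prime_of_isCoatom (hG : IsPGroup p G) {M : Subgroup G} (hM : IsCoatom M) :
    M.index = p := by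
  have := normal_of_isCoatom hG hM
  obtain ⟨n, hn⟩ := hG.index M
  have hn0 : n ≠ 0 := fun h0 => hM.1 (index_eq_one.mp (by rw [hn, h0, pow_zero]))
  obtain ⟨m, rfl⟩ := Nat.exists_eq_succ_of_ne_zero hn0
  have hd : p ∣ Nat.card (G ⧸ M) := by
    rw [← index_eq_card, hn]; exact dvd_pow_self p hn0
  obtain ⟨x, hx⟩ := exists_prime_orderOf_dvd_card' p hd
  have hlt : M < (zpowers x).comap (QuotientGroup.mk' M) := by
    refine lt_of_le_of_ne (fun y hy => ?_) ?_
    · rw [mem_comap, QuotientGroup.mk'_apply, (QuotientGroup.eq_one_iff y).mpr hy]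
      exact one_mem _
    · intro he
      obtain ⟨g, rfl⟩ := QuotientGroup.mk'_surjective M x
      have : g ∈ M := he ▸ mem_zpowers _
      rw [QuotientGroup.mk'_apply, (QuotientGroup.eq_one_iff g).mpr this, orderOf_one] at hx
      exact hp.out.one_lt.ne hx
  have htop := hM.2 _ hlt
  have htop : zpowers x = ⊤ :=
    comap_injective (QuotientGroup.mk'_surjective M) (htop.trans (comap_top _).symm)
  rw [index_eq_card, ← hx, ← Nat.card_zpowers, htop, card_top]

omit hp in
/-- A subgroup of prime index is maximal. -/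
theorem isCoatom_of_index_prime {M : Subgroup G} (h : M.index.Prime) : IsCoatom M := by
  refine ⟨fun ht => Nat.not_prime_one (by rwa [ht, index_top] at h), fun K hK => ?_⟩
  have h1 := relIndex_mul_index hK.le
  rcases (Nat.dvd_prime h).mp ⟨_, h1.symm.trans (mul_comm _ _)⟩ with h2 | h2
  · exact index_eq_one.mp h2
  · exfalso
    rw [h2] at h1
    have h3 : M.relIndex K = 1 := by
      have := h.pos
      nlinarith
    exact hK.not_ge (relIndex_eq_one.mp h3)

/-- A subgroup of index `p` of a finite `p`-group is normal. -/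
theorem normal_of_index_eq_prime (hG : IsPGroup p G) {M : Subgroup G} (h : M.index = p) :
    M.Normal :=
  normal_of_isCoatom hG (isCoatom_of_index_prime (h ▸ hp.out))

theorem isCoatom_iff_index_eq_prime (hG : IsPGroup p G) {M : Subgroup G} :
    IsCoatom M ↔ M.index = p :=
  ⟨index_eq_prime_of_isCoatom hG, fun h => isCoatom_of_index_prime (h ▸ hp.out)⟩

/-- A proper subgroup lies in a subgroup of index `p`. -/
theorem exists_le_index_eq_prime (hG : IsPGroup p G) {H : Subgroup G} (h : H ≠ ⊤) :
    ∃ M : Subgroup G, H ≤ M ∧ M.Normal ∧ M.index = p := by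
  obtain ⟨M, hM, hle⟩ := (IsCoatomic.eq_top_or_exists_le_coatom H).resolve_left h
  exact ⟨M, hle, normal_of_isCoatom hG hM, index_eq_prime_of_isCoatom hG hM⟩

/-- A group of order `p` is abelian. -/
theorem commute_of_card_prime {H : Type*} [Group H] (h : Nat.card H = p) (a b : H) :
    Commute a b := by
  have : IsCyclic H := isCyclic_of_prime_card h
  let := IsCyclic.commGroup (α := H)
  exact mul_comm a b

theorem pow_mem_frattini (hG : IsPGroup p G) (x : G) : x ^ p ∈ frattini G := by
  simp only [frattini, Order.radical, mem_iInf]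
  intro M hM
  have := normal_of_isCoatom hG hM
  rw [← index_eq_prime_of_isCoatom hG hM]
  exact pow_index_mem M x

theorem commutator_le_frattini (hG : IsPGroup p G) : commutator G ≤ frattini G := by
  simp only [frattini, Order.radical, le_iInf_iff]
  intro M hM
  have := normal_of_isCoatom hG hM
  refine Normal.quotient_commutative_iff_commutator_le.mp ⟨⟨commute_of_card_prime (p := p) ?_⟩⟩
  rw [← index_eq_card, index_eq_prime_of_isCoatom hG hM]

theorem comm_mem_frattini (hG : IsPGroup p G) (a b : G) : ⁅a, b⁆ ∈ frattini G :=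
  commutator_le_frattini hG (commutator_mem_commutator (mem_top a) (mem_top b))

/-- In an abelian group of exponent dividing `p`, a subgroup that is maximal avoiding a given
element is a maximal subgroup. -/
theorem exists_isCoatom_not_mem (hab : ∀ a b : G, Commute a b) (hexp : ∀ a : G, a ^ p = 1)
    {H : Subgroup G} {v : G} (hv : v ∉ H) : ∃ M : Subgroup G, H ≤ M ∧ IsCoatom M ∧ v ∉ M := by
  classical
  obtain ⟨M, ⟨hHM, hvM⟩, hmax⟩ :=
    (Set.toFinite {M : Subgroup G | H ≤ M ∧ v ∉ M}).exists_maximal ⟨H, le_refl _, hv⟩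
  refine ⟨M, hHM, ⟨fun ht => hvM (ht ▸ mem_top v), fun K hK => ?_⟩, hvM⟩
  have hvK : ∀ K : Subgroup G, M < K → v ∈ K := fun K hK => by
    by_contra hvK
    exact hK.not_ge (hmax ⟨hHM.trans hK.le, hvK⟩ hK.le)
  have hMv : ∀ w : G, w ∈ M ⊔ zpowers v := by
    intro w
    by_cases hw : w ∈ M
    · exact mem_sup_left hw
    have hlt : M < M ⊔ zpowers w :=
      lt_of_le_of_ne le_sup_left fun he => hw (he ▸ mem_sup_right (mem_zpowers w))
    have : M.Normal := ⟨fun n hn g => by rw [(hab g n).eq, mul_inv_cancel_right]; exact hn⟩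
    obtain ⟨m, hm, u, hu, rfl⟩ := mem_sup_of_normal_left.mp (hvK _ hlt)
    obtain ⟨i, rfl⟩ := mem_zpowers_iff.mp hu
    have hwp : w ^ (p : ℤ) = 1 := by rw [zpow_natCast]; exact hexp w
    have hi : ¬ (p : ℤ) ∣ i := by
      rintro ⟨k, rfl⟩
      apply hvM
      rw [zpow_mul, hwp, one_zpow, mul_one]
      exact hm
    have hcop : IsCoprime (p : ℤ) i :=
      (Nat.prime_iff_prime_int.mp hp.out).coprime_iff_not_dvd.mpr hi
    obtain ⟨s, t, hst⟩ := hcop
    have : w ^ i ∈ M ⊔ zpowers (m * w ^ i) := by
      have h1 : m⁻¹ * (m * w ^ i) ∈ M ⊔ zpowers (m * w ^ i) :=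
        mul_mem (mem_sup_left (inv_mem hm)) (mem_sup_right (mem_zpowers _))
      rwa [inv_mul_cancel_left] at h1
    have h2 := zpow_mem this t
    rwa [← zpow_mul, mul_comm i t, show t * i = 1 - s * p by linarith, zpow_sub, zpow_one,
      mul_comm s, zpow_mul, hwp, one_zpow, inv_one, mul_one] at h2
  exact top_le_iff.mp fun w _ => sup_le hK.le (zpowers_le.mpr (hvK K hK)) (hMv w)

/-- A normal subgroup with elementary abelian quotient contains the Frattini subgroup. -/
theorem frattini_le_of_quotient {N : Subgroup G} [N.Normal] (hc : commutator G ≤ N)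
    (hpow : ∀ x : G, x ^ p ∈ N) : frattini G ≤ N := by
  intro v hv
  by_contra hvN
  have hab : ∀ a b : G ⧸ N, Commute a b := fun a b =>
    (Normal.quotient_commutative_iff_commutator_le.mpr hc).is_comm.comm a b
  have hexp : ∀ a : G ⧸ N, a ^ p = 1 := fun a => by
    obtain ⟨a, rfl⟩ := QuotientGroup.mk'_surjective N a
    rw [← map_pow]
    exact (QuotientGroup.eq_one_iff _).mpr (hpow a)
  obtain ⟨M, -, hM, hvM⟩ := exists_isCoatom_not_mem hab hexp (H := ⊥)
    (v := QuotientGroup.mk' N v) fun h => hvN ((QuotientGroup.eq_one_iff v).mp (mem_bot.mp h))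
  exact hvM (frattini_le_coatom (isCoatom_comap_of_surjective (QuotientGroup.mk'_surjective N) hM) hv)

/-- In a finite `p`-group, `Φ(G) = ⟨g^p⟩ G'`. -/
theorem frattini_eq (hG : IsPGroup p G) :
    frattini G = closure (Set.range fun g : G => g ^ p) ⊔ commutator G := by
  refine le_antisymm ?_ (sup_le ((closure_le _).mpr ?_) (commutator_le_frattini hG))
  · have : (closure (Set.range fun g : G => g ^ p) ⊔ commutator G).Normal :=
      Subgroup.Normal.of_commutator_le (G := G) le_sup_right
    exact frattini_le_of_quotient le_sup_right fun x =>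
      mem_sup_left (subset_closure ⟨x, rfl⟩)
  · rintro _ ⟨g, rfl⟩
    exact pow_mem_frattini hG g

/-- In a finite 2-group, `Φ(G)` is generated by the squares. -/
theorem frattini_eq_closure_sq (hG : IsPGroup 2 G) :
    frattini G = closure (Set.range fun g : G => g ^ 2) := by
  have : Fact (Nat.Prime 2) := ⟨Nat.prime_two⟩
  rw [frattini_eq hG, sup_eq_left, _root_.commutator_def, commutator_le]
  intro a _ b _
  have h : ⁅a, b⁆ = (a * b) ^ 2 * (b⁻¹) ^ 2 * (b * a⁻¹ * b⁻¹) ^ 2 := by
    rw [commutatorElement_def]; simp only [pow_two]; group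
  rw [h]
  exact mul_mem (mul_mem (subset_closure ⟨_, rfl⟩) (subset_closure ⟨_, rfl⟩))
    (subset_closure ⟨_, rfl⟩)

theorem frattini_eq_bot (hab : ∀ a b : G, Commute a b) (hexp : ∀ a : G, a ^ p = 1) :
    frattini G = ⊥ := by
  refine le_bot_iff.mp (frattini_le_of_quotient (p := p) (N := ⊥) ?_ fun x => ?_)
  · rw [_root_.commutator_def, commutator_le]
    exact fun a _ b _ => mem_bot.mpr ((hab a b).commutator_eq)
  · exact mem_bot.mpr (hexp x)

/-- The Frattini quotient of a finite `p`-group is elementary abelian: commutativity. -/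
theorem quotient_frattini_commute (hG : IsPGroup p G) (a b : G ⧸ frattini G) : Commute a b :=
  (Normal.quotient_commutative_iff_commutator_le.mpr (commutator_le_frattini hG)).is_comm.comm a b

/-- The Frattini quotient of a finite `p`-group is elementary abelian: exponent. -/
theorem quotient_frattini_pow (hG : IsPGroup p G) (a : G ⧸ frattini G) : a ^ p = 1 := by
  obtain ⟨a, rfl⟩ := QuotientGroup.mk'_surjective (frattini G) a
  rw [← map_pow]
  exact (QuotientGroup.eq_one_iff _).mpr (pow_mem_frattini hG a)

/-- The centre of a nontrivial finite `p`-group has order divisible by `p`. -/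
theorem dvd_card_center (hG : IsPGroup p G) [Nontrivial G] : p ∣ Nat.card (center G) :=
  dvd_card_of_ne_bot hG hG.bot_lt_center.ne'

omit hp in
/-- A group generated by one element modulo its Frattini subgroup is cyclic. -/
theorem isCyclic_of_quotient_frattini_cyclic [IsCyclic (G ⧸ frattini G)] : IsCyclic G := by
  obtain ⟨x, hx⟩ := IsCyclic.exists_generator (α := G ⧸ frattini G)
  obtain ⟨g, rfl⟩ := QuotientGroup.mk'_surjective (frattini G) x
  refine ⟨g, fun y => ?_⟩
  have : zpowers g = ⊤ := by
    refine frattini_nongenerating (top_le_iff.mp fun z _ => ?_)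
    obtain ⟨i, hi⟩ := mem_zpowers_iff.mp (hx (QuotientGroup.mk' _ z))
    rw [← map_zpow, QuotientGroup.mk'_apply, QuotientGroup.mk'_apply, QuotientGroup.eq] at hi
    have := mul_mem_sup (zpow_mem (mem_zpowers g) i) hi
    rwa [mul_inv_cancel_left] at this
  exact mem_zpowers_iff.mp (show y ∈ zpowers g from this ▸ mem_top y)

/-- `|G : Φ(G)| ≤ p` forces `G` to be cyclic. -/
theorem isCyclic_of_index_frattini_le (hG : IsPGroup p G) (h : (frattini G).index ≤ p) :
    IsCyclic G := by
  have : IsCyclic (G ⧸ frattini G) := by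
    obtain ⟨n, hn⟩ := hG.index (frattini G)
    match n with
    | 0 =>
      have : Subsingleton (G ⧸ frattini G) := by
        rw [index_eq_card, pow_zero] at hn
        exact (Nat.card_eq_one_iff_unique.mp hn).1
      infer_instance
    | 1 => exact isCyclic_of_prime_card (p := p) (by rw [← index_eq_card, hn, pow_one])
    | n + 2 =>
      exfalso
      rw [hn] at h
      have := Nat.pow_lt_pow_right hp.out.one_lt (show 1 < n + 2 by omega)
      rw [pow_one] at this
      omega
  exact isCyclic_of_quotient_frattini_cyclic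

/-- A normal subgroup can be shrunk by one step inside a finite `p`-group. -/
theorem exists_normal_le_card (hG : IsPGroup p G) :
    ∀ {n : ℕ} (N : Subgroup G) [N.Normal] (m : ℕ), Nat.card N = p ^ n → m ≤ n →
      ∃ K : Subgroup G, K ≤ N ∧ K.Normal ∧ Nat.card K = p ^ m := by
  intro n N _ m hn hm
  induction m with
  | zero => exact ⟨⊥, bot_le, inferInstance, by simp⟩
  | succ m ih =>
    obtain ⟨K, hKN, hK, hKc⟩ := ih (by omega)
    have hne : N.map (QuotientGroup.mk' K) ≠ ⊥ := by
      intro hb
      rw [Subgroup.map_eq_bot_iff, QuotientGroup.ker_mk'] at hb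
      have := card_le_of_le hb
      rw [hn, hKc, Nat.pow_le_pow_iff_right hp.out.one_lt] at this
      omega
    have : (N.map (QuotientGroup.mk' K)).Normal :=
      Normal.map inferInstance _ (QuotientGroup.mk'_surjective K)
    obtain ⟨x, hx, hx1, hxp⟩ := exists_mem_pow_eq_one (hG.to_quotient K)
      (inf_center_ne_bot (hG.to_quotient K) hne)
    refine ⟨(zpowers x).comap (QuotientGroup.mk' K), fun y hy => ?_, ?_, ?_⟩
    · obtain ⟨z, hz, hzy⟩ := zpowers_le.mpr hx.1 hy
      rw [QuotientGroup.mk'_apply, QuotientGroup.mk'_apply, QuotientGroup.eq] at hzy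
      have := mul_mem hz (hKN hzy)
      rwa [mul_inv_cancel_left] at this
    · have : (zpowers x).Normal := ⟨fun u hu g => by
        rw [mem_center_iff.mp (zpowers_le.mpr hx.2 hu) g, mul_inv_cancel_right]; exact hu⟩
      exact normal_comap _
    · have h1 := card_mul_index ((zpowers x).comap (QuotientGroup.mk' K))
      have h2 := card_mul_index (zpowers x)
      rw [index_comap_of_surjective _ (QuotientGroup.mk'_surjective K),
        card_eq_card_quotient_mul_card_subgroup K, ← h2, Nat.card_zpowers,
        orderOf_eq_prime hxp hx1, hKc, mul_right_comm, mul_comm p, ← pow_succ] at h1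
      exact Nat.eq_of_mul_eq_mul_right (Nat.pos_of_ne_zero FiniteIndex.index_ne_zero) h1

end Cfsg.Agent.PGroup
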