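import Mathlib.GroupTheory.Commutator.Basic
import Mathlib.GroupTheory.PGroup
import Mathlib.GroupTheory.Nilpotent
import Mathlib.Data.Nat.Choose.Dvd
import Mathlib.Tactic

/-!
# Commutator identities in groups of class two and three

Convention: `⁅a, b⁆ = a * b * a⁻¹ * b⁻¹`.
-/

set_option autoImplicit false

open scoped commutatorElement

namespace Cfsg.Agent.PGroup

variable {G : Type*} [Group G]

theorem conj_eq_comm_mul (a b : G) : a * b * a⁻¹ = ⁅a, b⁆ * b := by
  rw [commutatorElement_def]; group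

theorem mul_eq_comm_mul_swap (a b : G) : a * b = ⁅a, b⁆ * (b * a) := by
  rw [commutatorElement_def]; group

/-- `⁅a^n, b⁆ = ⁅a, b⁆^n` as soon as `⁅a, b⁆` commutes with `a`. -/
theorem commutatorElement_pow_left {a b : G} (h : Commute ⁅a, b⁆ a) (n : ℕ) :
    ⁅a ^ n, b⁆ = ⁅a, b⁆ ^ n := by
  induction n with
  | zero => simp
  | succ n ih =>
    rw [pow_succ' a, commutatorElement_mul_left_eq_conj_mul, ih, pow_succ]
    congr 1
    rw [← (h.pow_left n).eq, mul_inv_cancel_right]

/-- `⁅a, b^n⁆ = ⁅a, b⁆^n` as soon as `⁅a, b⁆` commutes with `b`. -/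
theorem commutatorElement_pow_right {a b : G} (h : Commute ⁅a, b⁆ b) (n : ℕ) :
    ⁅a, b ^ n⁆ = ⁅a, b⁆ ^ n := by
  induction n with
  | zero => simp
  | succ n ih =>
    rw [pow_succ' b, commutatorElement_mul_right_eq_mul_conj, ih, pow_succ', mul_assoc ⁅a, b⁆ b,
      ← (h.pow_left n).eq]
    simp only [mul_assoc, mul_inv_cancel, mul_one]

/-- Hall-Petrescu in class two: `(ab)^n = a^n b^n ⁅b,a⁆^(n choose 2)`. -/
theorem mul_pow_of_commute_commutator {a b : G} (ha : Commute ⁅b, a⁆ a) (hb : Commute ⁅b, a⁆ b)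
    (n : ℕ) : (a * b) ^ n = a ^ n * b ^ n * ⁅b, a⁆ ^ n.choose 2 := by
  induction n with
  | zero => simp
  | succ n ih =>
    have h1 : b ^ n * a = a * b ^ n * ⁅b, a⁆ ^ n := by
      rw [mul_eq_comm_mul_swap (b ^ n) a, commutatorElement_pow_left hb]
      exact ((ha.pow_left n).mul_right ((hb.pow_left n).pow_right n)).eq
    have hc : Commute (⁅b, a⁆ ^ n.choose 2) (a * b) := (ha.pow_left _).mul_right (hb.pow_left _)
    rw [pow_succ (a * b), ih, mul_assoc, hc.eq, Nat.choose_succ_succ', Nat.choose_one_right,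
      pow_add ⁅b, a⁆]
    calc a ^ n * b ^ n * (a * b * ⁅b, a⁆ ^ n.choose 2)
        = a ^ n * (b ^ n * a) * b * ⁅b, a⁆ ^ n.choose 2 := by simp only [mul_assoc]
      _ = a ^ n * (a * b ^ n * (⁅b, a⁆ ^ n * b)) * ⁅b, a⁆ ^ n.choose 2 := by
        rw [h1]; simp only [mul_assoc]
      _ = a ^ n * (a * b ^ n * (b * ⁅b, a⁆ ^ n)) * ⁅b, a⁆ ^ n.choose 2 := by
        rw [(hb.pow_left n).eq]
      _ = a ^ (n + 1) * b ^ (n + 1) * (⁅b, a⁆ ^ n * ⁅b, a⁆ ^ n.choose 2) := by
        simp only [pow_succ, mul_assoc]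

/-! ### Commutators lying in the centre -/

section ClassTwo

theorem commutatorElement_mem_commutator (a b : G) : ⁅a, b⁆ ∈ commutator G :=
  Subgroup.commutator_mem_commutator (Subgroup.mem_top a) (Subgroup.mem_top b)

theorem commute_of_mem_center {z : G} (hz : z ∈ Subgroup.center G) (g : G) : Commute z g :=
  (Subgroup.mem_center_iff.mp hz g).symm

/-- Class at most two in the form used by the statements. -/
theorem commutator_le_center_iff :
    commutator G ≤ Subgroup.center G ↔ ⁅commutator G, (⊤ : Subgroup G)⁆ = ⊥ :=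
  (Subgroup.commutator_top_right_eq_bot_iff_le_center).symm

theorem commutatorElement_mul_left_of_mem_center {a b c : G} (h : ⁅b, c⁆ ∈ Subgroup.center G) :
    ⁅a * b, c⁆ = ⁅a, c⁆ * ⁅b, c⁆ := by
  rw [commutatorElement_mul_left_eq_conj_mul, ← (commute_of_mem_center h a).eq,
    mul_inv_cancel_right, (commute_of_mem_center h ⁅a, c⁆).eq]

theorem commutatorElement_mul_right_of_mem_center {a b c : G} (h : ⁅a, c⁆ ∈ Subgroup.center G) :
    ⁅a, b * c⁆ = ⁅a, b⁆ * ⁅a, c⁆ := by
  rw [commutatorElement_mul_right_eq_mul_conj, mul_assoc ⁅a, b⁆ b,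
    ← (commute_of_mem_center h b).eq]
  simp only [mul_assoc, mul_inv_cancel, mul_one]

variable (hG : commutator G ≤ Subgroup.center G)
include hG

theorem commute_comm (a b c : G) : Commute ⁅a, b⁆ c :=
  commute_of_mem_center (hG (commutatorElement_mem_commutator a b)) c

theorem comm_mul_left (a b c : G) : ⁅a * b, c⁆ = ⁅a, c⁆ * ⁅b, c⁆ :=
  commutatorElement_mul_left_of_mem_center (hG (commutatorElement_mem_commutator b c))

theorem comm_mul_right (a b c : G) : ⁅a, b * c⁆ = ⁅a, b⁆ * ⁅a, c⁆ :=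
  commutatorElement_mul_right_of_mem_center (hG (commutatorElement_mem_commutator a c))

theorem comm_pow_left (a b : G) (n : ℕ) : ⁅a ^ n, b⁆ = ⁅a, b⁆ ^ n :=
  commutatorElement_pow_left (commute_comm hG a b a) n

theorem comm_pow_right (a b : G) (n : ℕ) : ⁅a, b ^ n⁆ = ⁅a, b⁆ ^ n :=
  commutatorElement_pow_right (commute_comm hG a b b) n

theorem comm_inv_left (a b : G) : ⁅a⁻¹, b⁆ = ⁅a, b⁆⁻¹ := by
  have h := comm_mul_left hG a⁻¹ a b
  rw [inv_mul_cancel, commutatorElement_one_left] at h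
  exact eq_inv_of_mul_eq_one_left h.symm

theorem comm_inv_right (a b : G) : ⁅a, b⁻¹⁆ = ⁅a, b⁆⁻¹ := by
  have h := comm_mul_right hG a b⁻¹ b
  rw [inv_mul_cancel, commutatorElement_one_right] at h
  exact eq_inv_of_mul_eq_one_left h.symm

theorem mul_pow_classTwo (a b : G) (n : ℕ) :
    (a * b) ^ n = a ^ n * b ^ n * ⁅b, a⁆ ^ n.choose 2 :=
  mul_pow_of_commute_commutator (commute_comm hG b a a) (commute_comm hG b a b) n

/-- In class two, `x ↦ ⁅x, b⁆` is a homomorphism. -/
noncomputable def commHom (b : G) : G →* G where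
  toFun x := ⁅x, b⁆
  map_one' := commutatorElement_one_left b
  map_mul' x y := comm_mul_left hG x y b

@[simp] theorem commHom_apply (b x : G) : commHom hG b x = ⁅x, b⁆ := rfl

end ClassTwo

/-- If every commutator has order dividing the odd prime `p` and the class is at most two,
the `p`-th power map is multiplicative. -/
theorem mul_pow_prime_classTwo (hG : commutator G ≤ Subgroup.center G) {p : ℕ} (hp : p.Prime)
    (hp2 : p ≠ 2) {a b : G} (hc : ⁅b, a⁆ ^ p = 1) : (a * b) ^ p = a ^ p * b ^ p := by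
  obtain ⟨k, hk⟩ := hp.dvd_choose_self (two_ne_zero) (lt_of_le_of_ne hp.two_le (Ne.symm hp2))
  rw [mul_pow_classTwo hG, hk, pow_mul, hc, one_pow, mul_one]

/-- In class two the set of solutions of `x ^ p = 1` (`p` odd) is closed under products. -/
theorem pow_eq_one_mul_classTwo (hG : commutator G ≤ Subgroup.center G) {p : ℕ} (hp : p.Prime)
    (hp2 : p ≠ 2) {a b : G} (ha : a ^ p = 1) (hb : b ^ p = 1) : (a * b) ^ p = 1 := by
  rw [mul_pow_prime_classTwo hG hp hp2, ha, hb, mul_one]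
  rw [← comm_pow_left hG, hb, commutatorElement_one_left]

/-! ### Class three -/

section ClassThree

/-- The formula for `y^n x` when `⁅⁅y, x⁆, y⁆` is central. -/
theorem pow_mul_eq_classThree {x y : G} (he : ⁅⁅y, x⁆, y⁆ ∈ Subgroup.center G) (n : ℕ) :
    y ^ n * x * ⁅⁅y, x⁆, y⁆ ^ n.choose 2 = ⁅y, x⁆ ^ n * x * y ^ n := by
  set c := ⁅y, x⁆ with hc
  set e := ⁅c, y⁆ with he'
  have ce : ∀ g : G, Commute e g := commute_of_mem_center he
  induction n with
  | zero => simp
  | succ n ih =>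
    have h3 : c ^ n * y = e ^ n * (y * c ^ n) := by
      rw [mul_eq_comm_mul_swap (c ^ n) y, commutatorElement_pow_left (ce c)]
    rw [Nat.choose_succ_succ', Nat.choose_one_right, pow_add e]
    calc y ^ (n + 1) * x * (e ^ n * e ^ n.choose 2)
        = y * (y ^ n * x * e ^ n.choose 2) * e ^ n := by
          rw [pow_succ', ((ce (e ^ n.choose 2)).pow_left n).eq]; simp only [mul_assoc]
      _ = y * (c ^ n * x * y ^ n) * e ^ n := by rw [ih]
      _ = e ^ n * (y * c ^ n) * (x * y ^ n) := by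
          rw [mul_assoc (c ^ n), ← mul_assoc y, ((ce (y * c ^ n * (x * y ^ n))).pow_left n).eq.symm]
          simp only [mul_assoc]
      _ = c ^ n * (y * x) * y ^ n := by rw [← h3]; simp only [mul_assoc]
      _ = c ^ (n + 1) * x * y ^ (n + 1) := by
          rw [mul_eq_comm_mul_swap y x, ← hc, pow_succ c, pow_succ' y]; simp only [mul_assoc]

/-- Hall-Petrescu in class three. -/
theorem mul_pow_classThree {x y : G} (hd : ⁅⁅y, x⁆, x⁆ ∈ Subgroup.center G)
    (he : ⁅⁅y, x⁆, y⁆ ∈ Subgroup.center G) (n : ℕ) :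
    (x * y) ^ n = x ^ n * y ^ n * ⁅y, x⁆ ^ n.choose 2 * ⁅⁅y, x⁆, x⁆ ^ (n.choose 2 + n.choose 3)
      * ⁅⁅y, x⁆, y⁆ ^ (2 * (n + 1).choose 3) := by
  set c := ⁅y, x⁆ with hc
  set d := ⁅c, x⁆ with hd'
  set e := ⁅c, y⁆ with he'
  have cd : ∀ (m : ℕ) (g : G), Commute (d ^ m) g := fun m g => (commute_of_mem_center hd g).pow_left m
  have ce : ∀ (m : ℕ) (g : G), Commute (e ^ m) g := fun m g => (commute_of_mem_center he g).pow_left m
  have cd1 : Commute d c := commute_of_mem_center hd c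
  have ce1 : Commute e c := commute_of_mem_center he c
  have hcx : ∀ m : ℕ, c ^ m * x = x * c ^ m * d ^ m := by
    intro m
    rw [mul_eq_comm_mul_swap (c ^ m) x, commutatorElement_pow_left cd1, (cd m _).eq]
  have hcy : ∀ m k : ℕ, c ^ m * y ^ k = y ^ k * c ^ m * e ^ (m * k) := by
    intro m k
    have h1 : ⁅c ^ m, y⁆ = e ^ m := commutatorElement_pow_left ce1 m
    rw [mul_eq_comm_mul_swap (c ^ m) (y ^ k),
      commutatorElement_pow_right (h1 ▸ ce m y), h1, ← pow_mul, (ce _ _).eq]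
  induction n with
  | zero => simp [Nat.choose_eq_zero_of_lt]
  | succ n ih =>
    set a := n.choose 2 with ha
    set b := a + n.choose 3 with hb
    set f := 2 * (n + 1).choose 3 with hf
    have hswap : y ^ n * x * e ^ a = c ^ n * x * y ^ n := pow_mul_eq_classThree he n
    have hstep : y ^ n * c ^ a * (x * y) = x * y ^ (n + 1) * c ^ (n + a) * d ^ (n + a)
        * e ^ (n * (n + 1)) := by
      calc y ^ n * c ^ a * (x * y) = y ^ n * (c ^ a * x) * y := by simp only [mul_assoc]
        _ = y ^ n * x * (c ^ a * y ^ 1) * d ^ a := by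
          rw [hcx, pow_one]
          simp only [mul_assoc, (cd a y).eq]
        _ = y ^ n * x * e ^ a * (y * c ^ a) * d ^ a := by
          rw [hcy, mul_one, pow_one, ← (ce a (y * c ^ a)).eq]
          simp only [mul_assoc]
        _ = c ^ n * x * (y ^ n * y) * c ^ a * d ^ a := by rw [hswap]; simp only [mul_assoc]
        _ = x * (c ^ n * y ^ (n + 1)) * c ^ a * (d ^ n * d ^ a) := by
          rw [hcx, ← pow_succ]
          simp only [mul_assoc]
          rw [(cd n _).left_comm, (cd n _).left_comm]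
        _ = x * y ^ (n + 1) * c ^ (n + a) * d ^ (n + a) * e ^ (n * (n + 1)) := by
          rw [hcy, pow_add c, pow_add d]
          simp only [mul_assoc]
          rw [(ce (n * (n + 1)) _).left_comm, (ce (n * (n + 1)) _).left_comm,
            (ce (n * (n + 1)) (d ^ a)).eq]
    have hT : 2 * (n + 1).choose 2 = n * (n + 1) := by
      clear * -
      induction n with
      | zero => simp
      | succ k ihk =>
        rw [Nat.choose_succ_succ' (k + 1) 1, Nat.choose_one_right]
        simp only [Nat.reduceAdd]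
        linarith [show (k + 1) * (k + 1 + 1) = k * (k + 1) + 2 * (k + 1) by ring]
    have c2 : (n + 1).choose 2 = n + a := by
      rw [Nat.choose_succ_succ' n 1, Nat.choose_one_right]
    have c3 : (n + 1).choose 2 + (n + 1).choose 3 = n + a + b := by
      rw [c2, Nat.choose_succ_succ' n 2]
    have c4 : 2 * (n + 1 + 1).choose 3 = n * (n + 1) + f := by
      rw [Nat.choose_succ_succ' (n + 1) 2, Nat.mul_add, hT]
    rw [c3, c2, c4]
    calc (x * y) ^ (n + 1) = x ^ n * (y ^ n * c ^ a * (x * y)) * d ^ b * e ^ f := by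
          rw [pow_succ, ih]
          simp only [mul_assoc]
          rw [(ce f x).left_comm, (ce f y).eq, (cd b x).left_comm, (cd b y).left_comm]
      _ = x ^ (n + 1) * y ^ (n + 1) * c ^ (n + a) * d ^ (n + a + b) * e ^ (n * (n + 1) + f) := by
          rw [hstep, pow_succ x, pow_add d (n + a), pow_add e (n * (n + 1))]
          simp only [mul_assoc]
          rw [(ce (n * (n + 1)) (d ^ b)).left_comm]

/-- If `⁅⁅y, x⁆, x⁆`, `⁅⁅y, x⁆, y⁆` are central, `⁅y, x⁆ ^ p = 1` and `3 < p`, then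
`(x * y) ^ p = x ^ p * y ^ p`. -/
theorem mul_pow_prime_classThree {p : ℕ} (hp : p.Prime) (hp3 : 3 < p) {x y : G}
    (hd : ⁅⁅y, x⁆, x⁆ ∈ Subgroup.center G) (he : ⁅⁅y, x⁆, y⁆ ∈ Subgroup.center G)
    (hc : ⁅y, x⁆ ^ p = 1) : (x * y) ^ p = x ^ p * y ^ p := by
  have hdp : ⁅⁅y, x⁆, x⁆ ^ p = 1 := by
    rw [← commutatorElement_pow_left (commute_of_mem_center hd _), hc, commutatorElement_one_left]
  have hep : ⁅⁅y, x⁆, y⁆ ^ p = 1 := by
    rw [← commutatorElement_pow_left (commute_of_mem_center he _), hc, commutatorElement_one_left]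
  have h2 : p ∣ p.choose 2 := hp.dvd_choose_self two_ne_zero (by omega)
  have h3 : p ∣ p.choose 3 := hp.dvd_choose_self (by omega) hp3
  obtain ⟨k, hk⟩ := h2
  obtain ⟨l, hl⟩ := dvd_add (show p ∣ p.choose 2 from ⟨k, hk⟩) h3
  obtain ⟨m, hm⟩ : p ∣ 2 * (p + 1).choose 3 := by
    rw [Nat.choose_succ_succ' p 2]
    exact Dvd.dvd.mul_left (dvd_add ⟨k, hk⟩ h3) 2
  rw [mul_pow_classThree hd he, hl, hm, hk, pow_mul, pow_mul, pow_mul, hc, hdp, hep]
  simp

/-- In a group of class at most three, the set of solutions of `x ^ p = 1` (`3 < p`) is closed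
under products. -/
theorem comm_pow_prime_classThree {p : ℕ} (hp : p.Prime) (hp3 : 3 < p) {x y : G}
    (he : ⁅⁅y, x⁆, y⁆ ∈ Subgroup.center G) (hy : y ^ p = 1) : ⁅y, x⁆ ^ p = 1 := by
  have h1 := pow_mul_eq_classThree (x := x) (y := y) he p
  set c := ⁅y, x⁆
  set e := ⁅c, y⁆ with he'
  have ce : ∀ g : G, Commute e g := commute_of_mem_center he
  rw [hy, one_mul, mul_one] at h1
  have h2 : c ^ p = e ^ p.choose 2 := by
    rw [← (((ce x).pow_left _).eq)] at h1
    exact (mul_right_cancel h1).symm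
  have h3 : e ^ p = 1 := by
    rw [he', ← commutatorElement_pow_left (ce c), h2, commutatorElement_eq_one_iff_commute]
    exact (ce y).pow_left _
  obtain ⟨k, hk⟩ := hp.dvd_choose_self (two_ne_zero) (show 2 < p by omega)
  rw [h2, hk, pow_mul, h3, one_pow]

end ClassThree

end Cfsg.Agent.PGroup
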