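import Cfsg.Agent.Lib.PGroup.Basic
import Cfsg.Agent.Lib.PGroup.Commutator

/-!
# Normal abelian subgroups of finite `p`-groups
-/

set_option autoImplicit false

open Subgroup
open scoped commutatorElement

namespace Cfsg.Agent.PGroup

variable {G : Type*} [Group G] [Finite G] {p : ℕ} [hp : Fact p.Prime]

omit [Finite G] hp in
theorem normal_of_comm_mem {A B : Subgroup G} (hAB : A ≤ B)
    (h : ∀ g : G, ∀ b ∈ B, ⁅g, b⁆ ∈ A) : B.Normal :=
  ⟨fun b hb g => by rw [conj_eq_comm_mul]; exact mul_mem (hAB (h g b hb)) hb⟩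

omit [Finite G] hp in
/-- An abelian subgroup together with an element centralizing it generates an abelian group. -/
theorem isMulCommutative_sup_zpowers {A : Subgroup G} (hA : IsMulCommutative A) {x : G}
    (hx : x ∈ centralizer (A : Set G)) : IsMulCommutative ↥(A ⊔ zpowers x) := by
  rw [← le_centralizer_iff_isMulCommutative]
  have hA' := le_centralizer_iff_isMulCommutative.mpr hA
  refine sup_le ?_ (zpowers_le.mpr ?_)
  · rw [le_centralizer_iff]
    exact sup_le hA' (zpowers_le.mpr hx)
  · rw [← zpowers_le, le_centralizer_iff]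
    refine sup_le ?_ (le_centralizer_iff_isMulCommutative.mpr inferInstance)
    rw [le_centralizer_iff]
    exact zpowers_le.mpr hx

/-- Above a normal subgroup `A`, inside a larger normal subgroup `C`, there is a normal subgroup
`A ⊔ ⟨x⟩` with `|A ⊔ ⟨x⟩ : A| = p`, central modulo `A`. -/
theorem exists_normal_between (hG : IsPGroup p G) {A C : Subgroup G} [hA : A.Normal] [hC : C.Normal]
    (h : ¬ C ≤ A) : ∃ x ∈ C, x ∉ A ∧ x ^ p ∈ A ∧ (∀ g : G, ⁅g, x⁆ ∈ A) ∧
      (A ⊔ zpowers x).Normal ∧ Nat.card ↥(A ⊔ zpowers x) = p * Nat.card A := by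
  have hne : C.map (QuotientGroup.mk' A) ≠ ⊥ := fun hb => by
    rw [Subgroup.map_eq_bot_iff, QuotientGroup.ker_mk'] at hb; exact h hb
  have : (C.map (QuotientGroup.mk' A)).Normal :=
    hC.map _ (QuotientGroup.mk'_surjective A)
  obtain ⟨y, hy, hy1, hyp⟩ := exists_mem_pow_eq_one (hG.to_quotient A)
    (inf_center_ne_bot (hG.to_quotient A) hne)
  obtain ⟨x, hx, rfl⟩ := hy.1
  have hxA : x ∉ A := fun hx' => hy1 ((QuotientGroup.eq_one_iff x).mpr hx')
  have hxg : ∀ g : G, ⁅g, x⁆ ∈ A := fun g => by
    rw [← QuotientGroup.eq_one_iff, ← QuotientGroup.mk'_apply, map_commutatorElement,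
      commutatorElement_eq_one_iff_mul_comm]
    exact mem_center_iff.mp hy.2 _
  refine ⟨x, hx, hxA, ?_, hxg, ?_, ?_⟩
  · rw [← QuotientGroup.eq_one_iff, ← QuotientGroup.mk'_apply, map_pow]; exact hyp
  · refine normal_of_comm_mem le_sup_left fun g b hb => ?_
    obtain ⟨a, ha, u, hu, rfl⟩ := mem_sup_of_normal_left.mp hb
    obtain ⟨i, rfl⟩ := mem_zpowers_iff.mp hu
    rw [← QuotientGroup.eq_one_iff, ← QuotientGroup.mk'_apply, map_commutatorElement, map_mul,
      map_zpow, show QuotientGroup.mk' A a = 1 from (QuotientGroup.eq_one_iff a).mpr ha, one_mul,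
      commutatorElement_eq_one_iff_mul_comm]
    exact mem_center_iff.mp (Subgroup.zpow_mem (center (G ⧸ A)) hy.2 i) _
  · have e : A ⊔ zpowers x = (zpowers (QuotientGroup.mk' A x)).comap (QuotientGroup.mk' A) := by
      rw [← MonoidHom.map_zpowers, comap_map_eq, QuotientGroup.ker_mk', sup_comm]
    have h1 := card_mul_index ((zpowers (QuotientGroup.mk' A x)).comap (QuotientGroup.mk' A))
    have h2 := card_mul_index (zpowers (QuotientGroup.mk' A x))
    rw [index_comap_of_surjective _ (QuotientGroup.mk'_surjective A),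
      card_eq_card_quotient_mul_card_subgroup A, ← h2, Nat.card_zpowers,
      orderOf_eq_prime hyp hy1, mul_right_comm] at h1
    rw [e]
    exact Nat.eq_of_mul_eq_mul_right (Nat.pos_of_ne_zero FiniteIndex.index_ne_zero) h1

/-- A maximal normal abelian subgroup of a finite `p`-group is self-centralizing. -/
theorem centralizer_eq_of_maximal (hG : IsPGroup p G) {A : Subgroup G} [A.Normal]
    (hA : IsMulCommutative A)
    (hmax : ∀ B : Subgroup G, B.Normal → IsMulCommutative B → A ≤ B → B = A) :
    centralizer (A : Set G) = A := by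
  refine le_antisymm ?_ (le_centralizer_iff_isMulCommutative.mpr hA)
  by_contra h
  obtain ⟨x, hx, hxA, -, -, hn, -⟩ := exists_normal_between hG h
  have := hmax _ hn (isMulCommutative_sup_zpowers hA hx) le_sup_left
  exact hxA (this ▸ mem_sup_right (mem_zpowers x))

omit hp in
/-- Maximal normal abelian subgroups exist above any normal abelian subgroup. -/
theorem exists_maximal_normal_abelian {A₀ : Subgroup G} [h0 : A₀.Normal]
    (hA₀ : IsMulCommutative A₀) : ∃ A : Subgroup G, A₀ ≤ A ∧ A.Normal ∧ IsMulCommutative A ∧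
      ∀ B : Subgroup G, B.Normal → IsMulCommutative B → A ≤ B → B = A := by
  obtain ⟨A, ⟨h1, h2, h3⟩, hmax⟩ :=
    (Set.toFinite {A : Subgroup G | A₀ ≤ A ∧ A.Normal ∧ IsMulCommutative A}).exists_maximal
      ⟨A₀, le_refl _, h0, hA₀⟩
  exact ⟨A, h1, h2, h3, fun B hB hBa hAB => le_antisymm (hmax ⟨h1.trans hAB, hB, hBa⟩ hAB) hAB⟩

omit hp in
/-- A finite `p`-group has a self-centralizing normal abelian subgroup. -/
theorem exists_selfCentralizing_normal_abelian [Fact p.Prime] (hG : IsPGroup p G) :
    ∃ A : Subgroup G, A.Normal ∧ IsMulCommutative A ∧ centralizer (A : Set G) = A := by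
  obtain ⟨A, -, h2, h3, hmax⟩ :=
    exists_maximal_normal_abelian (A₀ := (⊥ : Subgroup G)) inferInstance
  exact ⟨A, h2, h3, centralizer_eq_of_maximal hG h3 hmax⟩

/-- The centralizer of a normal subgroup of order `p ^ n` has index at most `p ^ (n choose 2)`. -/
theorem index_centralizer_le (hG : IsPGroup p G) :
    ∀ (n : ℕ) (N : Subgroup G) [N.Normal], Nat.card N = p ^ n →
      (centralizer (N : Set G)).index ≤ p ^ n.choose 2 := by
  intro n
  induction n with
  | zero =>
    intro N _ hN
    rw [card_eq_one.mp (by simpa using hN : Nat.card N = 1)]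
    rw [centralizer_eq_top_iff_subset.mpr (show ((⊥ : Subgroup G) : Set G) ⊆ center G by simp)]
    simp
  | succ n ih =>
    intro N _ hN
    obtain ⟨K, hKN, hK, hKc⟩ := exists_normal_le_card hG N n hN n.le_succ
    have hnle : ¬ N ≤ K := fun h => by
      have := card_le_of_le h
      rw [hN, hKc, Nat.pow_le_pow_iff_right hp.out.one_lt] at this; omega
    obtain ⟨x, hx, -, -, hxg, -, hxc⟩ := exists_normal_between hG hnle
    have hKx : K ⊔ zpowers x = N := eq_of_le_of_card_ge (sup_le hKN (zpowers_le.mpr hx))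
      (by rw [hxc, hN, hKc, pow_succ, mul_comm])
    set D := centralizer (K : Set G) with hD
    have hle : centralizer (N : Set G) ≤ D := centralizer_le hKN
    have hfib : Nat.card (↥D ⧸ (centralizer (N : Set G)).subgroupOf D) ≤ Nat.card K := by
      refine Nat.card_le_card_of_injective (fun q => ⟨⁅(q.out : G), x⁆, hxg _⟩) fun q r hqr => ?_
      rw [← QuotientGroup.out_eq' q, ← QuotientGroup.out_eq' r, QuotientGroup.eq,
        mem_subgroupOf]
      set a : G := (q.out : G) with ha
      set b : G := (r.out : G) with hb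
      have h' : ⁅a, x⁆ = ⁅b, x⁆ := congrArg Subtype.val hqr
      rw [commutatorElement_def, commutatorElement_def, mul_left_inj] at h'
      have hcomm : (a⁻¹ * b) * x = x * (a⁻¹ * b) := by
        calc (a⁻¹ * b) * x = a⁻¹ * (b * x * b⁻¹) * b := by group
          _ = a⁻¹ * (a * x * a⁻¹) * b := by rw [h']
          _ = x * (a⁻¹ * b) := by group
      show a⁻¹ * b ∈ _
      rw [← zpowers_le, le_centralizer_iff, ← hKx]
      refine sup_le ?_ (zpowers_le.mpr ?_)
      · rw [le_centralizer_iff, zpowers_le]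
        exact D.mul_mem (D.inv_mem q.out.2) r.out.2
      · rw [← zpowers_le, le_centralizer_iff, zpowers_le, mem_centralizer_iff]
        intro z hz
        obtain ⟨i, rfl⟩ := mem_zpowers_iff.mp hz
        exact (show Commute (a⁻¹ * b) x from hcomm).zpow_right i |>.eq.symm
    have h1 := relIndex_mul_index hle
    have h2 : (centralizer (N : Set G)).relIndex D ≤ p ^ n := hKc ▸ hfib
    rw [← h1, show (n + 1).choose 2 = n + n.choose 2 by
      rw [Nat.choose_succ_succ' n 1, Nat.choose_one_right], pow_add]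
    exact Nat.mul_le_mul h2 (ih K hKc)

/-- An abelian group with at most `p` solutions of `x ^ p = 1` is cyclic. -/
theorem isCyclic_of_abelian_of_card_pow_eq_one_le (hG : IsPGroup p G)
    (hab : ∀ a b : G, Commute a b) (h : Nat.card {x : G // x ^ p = 1} ≤ p) : IsCyclic G := by
  let f : G →* G :=
    { toFun := fun x => x ^ p, map_one' := one_pow _, map_mul' := fun a b => (hab a b).mul_pow p }
  refine isCyclic_of_index_frattini_le hG (le_trans (b := f.range.index)
    (Nat.le_of_dvd ?_ (index_dvd_of_le ?_)) ?_)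
  · exact Nat.pos_of_ne_zero (FiniteIndex.index_ne_zero (H := f.range))
  · rintro _ ⟨x, rfl⟩; exact pow_mem_frattini hG x
  · have h1 := card_mul_index f.range
    have h2 := card_mul_index f.ker
    rw [index_ker] at h2
    have h3 : Nat.card f.ker = f.range.index := by
      refine Nat.eq_of_mul_eq_mul_left (Nat.card_pos (α := f.range)) ?_
      rw [h1, ← h2, mul_comm]
    rw [← h3]; exact h

/-- A noncyclic normal abelian subgroup contains a normal elementary abelian subgroup of order
`p ^ 2`. -/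
theorem exists_normal_elementary_sq_of_abelian (hG : IsPGroup p G) {A : Subgroup G} [A.Normal]
    (hA : IsMulCommutative A) (hnc : ¬ IsCyclic A) :
    ∃ B : Subgroup G, B ≤ A ∧ B.Normal ∧ IsMulCommutative B ∧ (∀ b ∈ B, b ^ p = 1) ∧
      Nat.card B = p ^ 2 := by
  have hc : ∀ a ∈ A, ∀ b ∈ A, Commute a b := fun a ha b hb =>
    congrArg Subtype.val (hA.is_comm.comm (⟨a, ha⟩ : A) ⟨b, hb⟩)
  let W : Subgroup G :=
    { carrier := {x | x ∈ A ∧ x ^ p = 1}
      one_mem' := ⟨one_mem _, one_pow _⟩
      mul_mem' := fun {a b} ha hb =>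
        ⟨mul_mem ha.1 hb.1, by rw [(hc a ha.1 b hb.1).mul_pow, ha.2, hb.2, one_mul]⟩
      inv_mem' := fun {a} ha => ⟨inv_mem ha.1, by rw [inv_pow, ha.2, inv_one]⟩ }
  have : W.Normal := ⟨fun a ha g => ⟨Subgroup.Normal.conj_mem inferInstance a ha.1 g, by
    rw [conj_pow, ha.2, mul_one, mul_inv_cancel]⟩⟩
  obtain ⟨k, hk⟩ := exists_card_eq_pow hG W
  have hk2 : 2 ≤ k := by
    by_contra hlt
    refine hnc (isCyclic_of_abelian_of_card_pow_eq_one_le (hG.to_subgroup A)
      (fun a b => Subtype.ext (hc a a.2 b b.2)) ?_)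
    have e : Nat.card {x : A // x ^ p = 1} = Nat.card W := Nat.card_congr
      { toFun := fun x => ⟨x.1.1, x.1.2, congrArg Subtype.val x.2⟩
        invFun := fun x => ⟨⟨x.1, x.2.1⟩, Subtype.ext x.2.2⟩
        left_inv := fun x => rfl
        right_inv := fun x => rfl }
    rw [e, hk]
    exact (Nat.pow_le_pow_right hp.out.one_le (show k ≤ 1 by omega)).trans (pow_one p).le
  obtain ⟨B, hBW, hB, hBc⟩ := exists_normal_le_card hG W 2 hk hk2
  exact ⟨B, fun b hb => (hBW hb).1, hB,
    ⟨⟨fun a b => Subtype.ext (hc a (hBW a.2).1 b (hBW b.2).1)⟩⟩, fun b hb => (hBW hb).2, hBc⟩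

/-- If the `p`-th power map of `G` is a homomorphism and `G` has a cyclic subgroup of index `p`
without being cyclic, its kernel has order `p ^ 2`. -/
theorem card_pow_eq_one_of_cyclic_maximal (hG : IsPGroup p G)
    (hpow : ∀ a b : G, (a * b) ^ p = a ^ p * b ^ p) (hnc : ¬ IsCyclic G)
    {C : Subgroup G} (hC : IsCyclic C) (hCi : C.index = p) :
    Nat.card {x : G // x ^ p = 1} = p ^ 2 := by
  let f : G →* G := { toFun := fun x => x ^ p, map_one' := one_pow _, map_mul' := hpow }
  have := normal_of_index_eq_prime hG hCi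
  obtain ⟨a, ha⟩ := hC.exists_generator
  have hgen : zpowers (a : G) = C := by
    refine le_antisymm (zpowers_le.mpr a.2) fun c hc => ?_
    obtain ⟨i, hi⟩ := mem_zpowers_iff.mp (ha ⟨c, hc⟩)
    exact mem_zpowers_iff.mpr ⟨i, congrArg Subtype.val hi⟩
  have hrange : f.range = (zpowers (a : G)).map f := by
    refine le_antisymm ?_ (map_le_range _ _)
    rintro _ ⟨y, rfl⟩
    have hyC : y ^ p ∈ C := hCi ▸ pow_index_mem C y
    rw [← hgen] at hyC
    obtain ⟨i, hi⟩ := mem_zpowers_iff.mp hyC
    by_cases hd : (p : ℤ) ∣ i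
    · obtain ⟨j, rfl⟩ := hd
      refine ⟨(a : G) ^ j, zpow_mem (mem_zpowers _) j, ?_⟩
      show ((a : G) ^ j) ^ p = y ^ p
      rw [← hi, ← zpow_natCast, ← zpow_mul, mul_comm]
    · exfalso
      apply hnc
      have hay : (a : G) ∈ zpowers y := by
        obtain ⟨m, hm⟩ := IsPGroup.iff_orderOf.mp hG (a : G)
        have hcop : IsCoprime ((p : ℤ) ^ m) i :=
          ((Nat.prime_iff_prime_int.mp hp.out).coprime_iff_not_dvd.mpr hd).pow_left
        obtain ⟨s, t, hst⟩ := hcop
        refine mem_zpowers_iff.mpr ⟨(p : ℤ) * t, ?_⟩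
        rw [zpow_mul, zpow_natCast, ← hi, ← zpow_mul,
          show i * t = 1 + ((orderOf (a : G) : ℕ) : ℤ) * (-s) by rw [hm]; push_cast; linarith,
          zpow_add, zpow_mul, zpow_natCast, pow_orderOf_eq_one]
        simp
      have hle : C ≤ zpowers y := hgen ▸ zpowers_le.mpr hay
      rcases (isCoatom_iff_index_eq_prime hG).mpr hCi |>.le_iff.mp hle with h | h
      · exact isCyclic_iff_exists_zpowers_eq_top.mpr ⟨y, h⟩
      · exfalso
        have hyC : y ∈ C := h ▸ mem_zpowers y
        rw [← hgen] at hyC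
        obtain ⟨l, hl⟩ := mem_zpowers_iff.mp hyC
        have h3 : (a : G) ^ (l * p - i) = 1 := by
          rw [zpow_sub, hi, zpow_mul, hl, zpow_natCast, mul_inv_cancel]
        have h4 : (p : ℤ) ∣ orderOf (a : G) := by
          obtain ⟨m, hm⟩ := IsPGroup.iff_orderOf.mp hG (a : G)
          rcases m with _ | m
          · exfalso
            rw [pow_zero, orderOf_eq_one_iff] at hm
            have hCb : C = ⊥ := by rw [← hgen, hm, zpowers_one_eq_bot]
            apply hnc
            exact isCyclic_of_prime_card (p := p) (by rw [← hCi, hCb, index_bot])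
          · exact ⟨(p : ℤ) ^ m, by rw [hm, pow_succ']; push_cast; rfl⟩
        exact hd (by
          have := h4.trans (orderOf_dvd_iff_zpow_eq_one.mpr h3)
          exact (Int.dvd_iff_dvd_of_dvd_sub this).mp (dvd_mul_left _ _))
  have h1 := card_mul_index f.ker
  rw [index_ker, hrange] at h1
  have hC2 : Nat.card ((zpowers (a : G)).map f) * p = Nat.card C := by
    have e : (zpowers (a : G)).map f = zpowers ((a : G) ^ p) := MonoidHom.map_zpowers f _
    have hcard : Nat.card C = orderOf (a : G) := by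
      rw [← Nat.card_zpowers]; exact (congrArg (fun K : Subgroup G => Nat.card K) hgen).symm
    rw [e, Nat.card_zpowers, hcard, orderOf_pow]
    obtain ⟨m, hm⟩ := IsPGroup.iff_orderOf.mp hG (a : G)
    rcases m with _ | m
    · exfalso
      rw [pow_zero, orderOf_eq_one_iff] at hm
      have hCb : C = ⊥ := by rw [← hgen, hm, zpowers_one_eq_bot]
      exact hnc (isCyclic_of_prime_card (p := p) (by rw [← hCi, hCb, index_bot]))
    · rw [hm, pow_succ, Nat.gcd_eq_right (dvd_mul_left p _), Nat.mul_div_cancel _ hp.out.pos]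
  have h5 := card_mul_index C
  rw [hCi, ← hC2, mul_assoc] at h5
  have : Nat.card f.ker = p * p := by
    refine Nat.eq_of_mul_eq_mul_right (Nat.card_pos (α := ((zpowers (a : G)).map f))) ?_
    rw [h1, ← h5, mul_comm]
  rw [pow_two, ← this]
  exact Nat.card_congr (Equiv.refl _)

end Cfsg.Agent.PGroup
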