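import Cfsg.Agent.Lib.PGroup.CyclicMax

/-!
# Normal elementary abelian subgroups of order `p ^ 2`
-/

set_option autoImplicit false

open Subgroup
open scoped commutatorElement

namespace Cfsg.Agent.PGroup

variable {G : Type*} [Group G] [Finite G] {p : ℕ} [hp : Fact p.Prime]

omit [Finite G] hp in
theorem closure_pow_eq_one_characteristic (n : ℕ) :
    (closure {x : G | x ^ n = 1}).Characteristic := by
  rw [characteristic_iff_map_le]
  intro φ
  rw [MonoidHom.map_closure]
  refine closure_mono ?_
  rintro _ ⟨x, hx, rfl⟩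
  show (φ x) ^ n = 1
  rw [← map_pow, show x ^ n = 1 from hx, map_one]

omit [Finite G] hp in
theorem mul_comm_of_cyclic [IsCyclic G] (a b : G) : a * b = b * a :=
  letI := IsCyclic.commGroup (α := G)
  mul_comm a b

/-- A noncyclic odd `p`-group has a normal elementary abelian subgroup of order `p ^ 2`. -/
theorem exists_normal_elementary_sq (hG : IsPGroup p G) (hp2 : p ≠ 2) (hnc : ¬ IsCyclic G) :
    ∃ B : Subgroup G, B.Normal ∧ IsMulCommutative B ∧ (∀ b ∈ B, b ^ p = 1) ∧
      Nat.card B = p ^ 2 := by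
  obtain ⟨A, hA, hAc, hcen⟩ := exists_selfCentralizing_normal_abelian hG
  by_cases hAcyc : IsCyclic A
  · have hne : ¬ (⊤ : Subgroup G) ≤ A := fun hle => hnc <| by
      obtain rfl := top_le_iff.mp hle
      exact topEquiv.isCyclic.mp hAcyc
    obtain ⟨x, -, hxA, -, -, hB, hBc⟩ := exists_normal_between hG (A := A) (C := ⊤) hne
    set B := A ⊔ zpowers x with hBdef
    have hBnc : ¬ IsCyclic B := by
      intro hBcyc
      have hcm : ∀ a ∈ B, ∀ b ∈ B, a * b = b * a := fun a ha b hb =>
        congrArg Subtype.val (mul_comm_of_cyclic (⟨a, ha⟩ : B) ⟨b, hb⟩)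
      refine hxA (hcen ▸ ?_)
      rw [mem_centralizer_iff]
      exact fun h hh => hcm h (mem_sup_left hh) x (mem_sup_right (mem_zpowers x))
    have hAB : IsCyclic (A.subgroupOf B) := (subgroupOfEquivOfLe le_sup_left).isCyclic.mpr hAcyc
    have hidx : (A.subgroupOf B).index = p := by
      have h1 := card_mul_index (A.subgroupOf B)
      rw [hBc, Nat.card_congr (subgroupOfEquivOfLe (le_sup_left : A ≤ B)).toEquiv,
        mul_comm p] at h1
      exact Nat.eq_of_mul_eq_mul_left Nat.card_pos h1
    obtain ⟨h1, h2, h3⟩ := omega_of_cyclic_maximal (hG.to_subgroup B) hp2 hBnc hAB hidx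
    have hchar := closure_pow_eq_one_characteristic (G := ↥B) p
    refine ⟨(closure {z : B | z ^ p = 1}).map B.subtype, inferInstance, ?_, ?_, ?_⟩
    · exact map_isMulCommutative _ _
    · rintro _ ⟨z, hz, rfl⟩
      rw [← map_pow, h1 z hz, map_one]
    · rw [card_map_of_injective B.subtype_injective]
      exact h3
  · obtain ⟨B, -, h⟩ := exists_normal_elementary_sq_of_abelian hG hAc hAcyc
    exact ⟨B, h⟩

end Cfsg.Agent.PGroup
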