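import Cfsg.Agent.Lib.PGroup.Commutator

/-!
# `Ω₁` and the `p`-th power map in groups of small class
-/

set_option autoImplicit false

open scoped commutatorElement

namespace Cfsg.Agent.PGroup

variable {G : Type*} [Group G]

/-- If the solutions of `x ^ n = 1` are closed under products they form a subgroup, so everything
in the subgroup they generate is again a solution. -/
theorem pow_eq_one_of_mem_closure {n : ℕ}
    (hmul : ∀ a b : G, a ^ n = 1 → b ^ n = 1 → (a * b) ^ n = 1) {g : G}
    (hg : g ∈ Subgroup.closure {x : G | x ^ n = 1}) : g ^ n = 1 := by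
  induction hg using Subgroup.closure_induction with
  | mem x hx => exact hx
  | one => simp
  | mul a b _ _ ha hb => exact hmul a b ha hb
  | inv a _ ha => simp [ha]

theorem omega_pow_eq_one_classTwo (hG : commutator G ≤ Subgroup.center G) {p : ℕ} (hp : p.Prime)
    (hp2 : p ≠ 2) {g : G} (hg : g ∈ Subgroup.closure {x : G | x ^ p = 1}) : g ^ p = 1 :=
  pow_eq_one_of_mem_closure (fun _ _ ha hb => pow_eq_one_mul_classTwo hG hp hp2 ha hb) hg

/-- The class at most three condition, unfolded. -/
theorem double_comm_mem_center (hG : ⁅⁅commutator G, (⊤ : Subgroup G)⁆, (⊤ : Subgroup G)⁆ = ⊥)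
    (a b c : G) : ⁅⁅a, b⁆, c⁆ ∈ Subgroup.center G :=
  (Subgroup.commutator_top_right_eq_bot_iff_le_center).mp hG
    (Subgroup.commutator_mem_commutator (commutatorElement_mem_commutator a b)
      (Subgroup.mem_top c))

theorem pow_eq_one_mul_classThree
    (hG : ⁅⁅commutator G, (⊤ : Subgroup G)⁆, (⊤ : Subgroup G)⁆ = ⊥) {p : ℕ} (hp : p.Prime)
    (hp3 : 3 < p) {a b : G} (ha : a ^ p = 1) (hb : b ^ p = 1) : (a * b) ^ p = 1 := by
  rw [mul_pow_prime_classThree hp hp3 (double_comm_mem_center hG b a a)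
    (double_comm_mem_center hG b a b)
    (comm_pow_prime_classThree hp hp3 (double_comm_mem_center hG b a b) hb), ha, hb, mul_one]

theorem omega_pow_eq_one_classThree
    (hG : ⁅⁅commutator G, (⊤ : Subgroup G)⁆, (⊤ : Subgroup G)⁆ = ⊥) {p : ℕ} (hp : p.Prime)
    (hp3 : 3 < p) {g : G} (hg : g ∈ Subgroup.closure {x : G | x ^ p = 1}) : g ^ p = 1 :=
  pow_eq_one_of_mem_closure (fun _ _ ha hb => pow_eq_one_mul_classThree hG hp hp3 ha hb) hg

end Cfsg.Agent.PGroup
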