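import Cfsg.Agent.Lib.PGroup.NormalAbelian
import Cfsg.Agent.Lib.PGroup.OmegaSmallClass
import Mathlib.FieldTheory.Finite.Basic

/-!
# `p`-groups (`p` odd) with a cyclic subgroup of index `p`
-/

set_option autoImplicit false

open Subgroup
open scoped commutatorElement

namespace Cfsg.Agent.PGroup

variable {G : Type*} [Group G] [Finite G] {p : ℕ} [hp : Fact p.Prime]

omit [Finite G] hp in
theorem exists_one_add_pow_eq (x : ℤ) (n : ℕ) :
    ∃ k : ℤ, (1 + x) ^ n = 1 + n * x + (n.choose 2 : ℕ) * x ^ 2 + x ^ 3 * k := by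
  induction n with
  | zero => exact ⟨0, by simp⟩
  | succ n ih =>
    obtain ⟨k, hk⟩ := ih
    refine ⟨(n.choose 2 : ℕ) + k + x * k, ?_⟩
    rw [pow_succ, hk, Nat.choose_succ_succ' n 1, Nat.choose_one_right]
    push_cast
    ring

omit [Finite G] in
/-- Lifting the exponent, in the weak form needed here. -/
theorem dvd_mul_sub_one_of_dvd_pow_sub_one (hp2 : p ≠ 2) {m : ℕ} {r : ℤ}
    (h : (p : ℤ) ^ m ∣ r ^ p - 1) : (p : ℤ) ^ m ∣ p * (r - 1) := by
  rcases Nat.eq_zero_or_pos m with rfl | hm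
  · simp
  have hr : (p : ℤ) ∣ r - 1 := by
    have h1 : (p : ℤ) ∣ r ^ p - 1 := (dvd_pow_self _ (by omega)).trans h
    have h2 : (p : ℤ) ∣ r ^ p - r := by
      rw [← ZMod.intCast_zmod_eq_zero_iff_dvd]; simp
    have h3 := dvd_sub h1 h2
    rwa [sub_sub_sub_cancel_left] at h3
  obtain ⟨s, hs⟩ := hr
  obtain ⟨k, hk⟩ := exists_one_add_pow_eq (p * s) p
  obtain ⟨c, hc⟩ := hp.out.dvd_choose_self (two_ne_zero)
    (lt_of_le_of_ne hp.out.two_le (Ne.symm hp2))
  rw [show r = 1 + p * s by linarith, hk, hc] at h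
  push_cast at h
  have h' : (p : ℤ) ^ m ∣ (p * (p * s)) * (1 + p * (c * s + s ^ 2 * k)) := by
    convert h using 1; ring
  rw [hs]
  refine IsCoprime.dvd_of_dvd_mul_right ?_ h'
  exact IsCoprime.pow_left ⟨-(c * s + s ^ 2 * k), 1, by ring⟩

/-- An odd `p`-group with a cyclic subgroup of index `p` has class at most two, with commutators
of order dividing `p`. -/
theorem classTwo_of_cyclic_maximal (hG : IsPGroup p G) (hp2 : p ≠ 2) {C : Subgroup G}
    (hC : IsCyclic C) (hCi : C.index = p) :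
    commutator G ≤ center G ∧ ∀ g h : G, ⁅g, h⁆ ^ p = 1 := by
  have hN := normal_of_index_eq_prime hG hCi
  obtain ⟨⟨a, haC⟩, hag⟩ := hC.exists_generator
  have hgen : C ≤ zpowers a := fun c hc => by
    obtain ⟨i, hi⟩ := mem_zpowers_iff.mp (hag ⟨c, hc⟩)
    exact mem_zpowers_iff.mpr ⟨i, congrArg Subtype.val hi⟩
  have hcoatom := (isCoatom_iff_index_eq_prime hG).mpr hCi
  obtain ⟨y, hy⟩ : ∃ y : G, y ∉ C := by
    by_contra hall
    push Not at hall
    exact hcoatom.1 (eq_top_iff' C |>.mpr hall)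
  obtain ⟨r, hr⟩ := mem_zpowers_iff.mp (hgen (hN.conj_mem a haC y))
  have hconj : ∀ k : ℕ, y ^ k * a * (y ^ k)⁻¹ = a ^ (r ^ k) := by
    intro k
    induction k with
    | zero => simp
    | succ k ih =>
      calc y ^ (k + 1) * a * (y ^ (k + 1))⁻¹ = y * (y ^ k * a * (y ^ k)⁻¹) * y⁻¹ := by
            rw [pow_succ']; group
        _ = (y * a * y⁻¹) ^ (r ^ k) := by rw [ih, conj_zpow]
        _ = a ^ (r ^ (k + 1)) := by rw [← hr, ← zpow_mul, pow_succ']
  have hyp : Commute (y ^ p) a := by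
    obtain ⟨i, hi⟩ := mem_zpowers_iff.mp (hgen (hCi ▸ pow_index_mem C y))
    rw [← hi]; exact Commute.zpow_self a i
  obtain ⟨m, hm⟩ := IsPGroup.iff_orderOf.mp hG a
  have hdvd : (p : ℤ) ^ m ∣ r ^ p - 1 := by
    rw [← Nat.cast_pow, ← hm, orderOf_dvd_iff_zpow_eq_one, zpow_sub, zpow_one, ← hconj p, hyp.eq,
      mul_inv_cancel_right, mul_inv_cancel]
  have hdvd' := dvd_mul_sub_one_of_dvd_pow_sub_one hp2 hdvd
  set c := a ^ (r - 1) with hc
  have hcp : c ^ p = 1 := by
    rw [hc, ← zpow_natCast, ← zpow_mul, ← orderOf_dvd_iff_zpow_eq_one, hm, Nat.cast_pow, mul_comm]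
    exact hdvd'
  have hcomm : ⁅y, a⁆ = c := by
    rw [commutatorElement_def, ← hr, hc, zpow_sub, zpow_one]
  have hcy : Commute y c := by
    show y * c = c * y
    have : y * c * y⁻¹ = c := by
      have h2 : (a : G) ^ ((r - 1) * (r - 1)) = 1 := by
        rcases Nat.eq_zero_or_pos m with rfl | hmpos
        · rw [pow_zero, orderOf_eq_one_iff] at hm; rw [hm, one_zpow]
        have hr1 : (p : ℤ) ∣ r - 1 := by
          have h1 : (p : ℤ) ∣ r ^ p - 1 := (dvd_pow_self _ (by omega)).trans hdvd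
          have h2 : (p : ℤ) ∣ r ^ p - r := by
            rw [← ZMod.intCast_zmod_eq_zero_iff_dvd]; simp
          have h3 := dvd_sub h1 h2
          rwa [sub_sub_sub_cancel_left] at h3
        obtain ⟨s, hs⟩ := hr1
        rw [zpow_mul, ← hc, hs, zpow_mul, zpow_natCast, hcp, one_zpow]
      calc y * c * y⁻¹ = (y * a * y⁻¹) ^ (r - 1) := by rw [conj_zpow]
        _ = a ^ ((r - 1) * (r - 1)) * c := by
          rw [← hr, ← zpow_mul, hc, ← zpow_add]; congr 1; ring
        _ = c := by rw [h2, one_mul]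
    exact mul_inv_eq_iff_eq_mul.mp this
  have htop : (⊤ : Subgroup G) = closure {a, y} := by
    refine (hcoatom.2 _ (lt_of_le_of_ne ?_ ?_)).symm
    · exact hgen.trans (zpowers_le.mpr (subset_closure (by simp)))
    · intro he; exact hy (he ▸ subset_closure (by simp))
  have hcen : c ∈ center G := by
    rw [← centralizer_univ, ← coe_top, htop, centralizer_closure, mem_centralizer_iff]
    rintro z (rfl | rfl)
    · exact (Commute.self_zpow z (r - 1)).eq
    · exact hcy.eq
  have hle : zpowers c ≤ center G := zpowers_le.mpr hcen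
  have : (zpowers c).Normal := ⟨fun u hu g => by
    rw [mem_center_iff.mp (hle hu) g, mul_inv_cancel_right]; exact hu⟩
  have hder : commutator G ≤ zpowers c := by
    refine Normal.quotient_commutative_iff_commutator_le.mp ⟨⟨?_⟩⟩
    have himg : ((⊤ : Subgroup (G ⧸ zpowers c))) = closure
        {QuotientGroup.mk' (zpowers c) a, QuotientGroup.mk' (zpowers c) y} := by
      rw [← map_top_of_surjective _ (QuotientGroup.mk'_surjective (zpowers c)), htop,
        MonoidHom.map_closure, Set.image_pair]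
    have hab : IsMulCommutative (closure
        {QuotientGroup.mk' (zpowers c) a, QuotientGroup.mk' (zpowers c) y}) := by
      have key : QuotientGroup.mk' (zpowers c) y * QuotientGroup.mk' (zpowers c) a =
          QuotientGroup.mk' (zpowers c) a * QuotientGroup.mk' (zpowers c) y := by
        rw [← commutatorElement_eq_one_iff_mul_comm, ← map_commutatorElement, hcomm]
        exact (QuotientGroup.eq_one_iff c).mpr (mem_zpowers c)
      refine isMulCommutative_closure ?_
      rintro u (rfl | rfl) v (rfl | rfl)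
      · rfl
      · exact key.symm
      · exact key
      · rfl
    rw [← himg] at hab
    exact fun u v => congrArg Subtype.val (hab.is_comm.comm
      (⟨u, mem_top u⟩ : (⊤ : Subgroup (G ⧸ zpowers c))) ⟨v, mem_top v⟩)
  refine ⟨hder.trans hle, fun g h => ?_⟩
  obtain ⟨i, hi⟩ := mem_zpowers_iff.mp (hder (commutatorElement_mem_commutator g h))
  rw [← hi, ← zpow_natCast, ← zpow_mul, mul_comm, zpow_mul, zpow_natCast, hcp, one_zpow]

/-- In a noncyclic odd `p`-group with a cyclic subgroup of index `p`, the solutions of `x^p = 1`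
form an elementary abelian subgroup of order `p^2`. -/
theorem omega_of_cyclic_maximal (hG : IsPGroup p G) (hp2 : p ≠ 2) (hnc : ¬ IsCyclic G)
    {C : Subgroup G} (hC : IsCyclic C) (hCi : C.index = p) :
    (∀ x ∈ closure {x : G | x ^ p = 1}, x ^ p = 1) ∧
      IsMulCommutative ↥(closure {x : G | x ^ p = 1}) ∧
      Nat.card ↥(closure {x : G | x ^ p = 1}) = p ^ 2 := by
  obtain ⟨h1, h2⟩ := classTwo_of_cyclic_maximal hG hp2 hC hCi
  have hpow : ∀ a b : G, (a * b) ^ p = a ^ p * b ^ p := fun a b =>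
    mul_pow_prime_classTwo h1 hp.out hp2 (h2 b a)
  have hmem : ∀ x ∈ closure {x : G | x ^ p = 1}, x ^ p = 1 := fun x hx =>
    pow_eq_one_of_mem_closure (fun a b ha hb => by rw [hpow, ha, hb, one_mul]) hx
  have hcard : Nat.card ↥(closure {x : G | x ^ p = 1}) = p ^ 2 := by
    rw [← card_pow_eq_one_of_cyclic_maximal hG hpow hnc hC hCi]
    exact Nat.card_congr
      { toFun := fun x => ⟨x.1, hmem x.1 x.2⟩
        invFun := fun x => ⟨x.1, subset_closure x.2⟩
        left_inv := fun _ => rfl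
        right_inv := fun _ => rfl }
  exact ⟨hmem, IsPGroup.isMulCommutative_of_card_eq_prime_sq hcard, hcard⟩

end Cfsg.Agent.PGroup
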