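import Cfsg.Prelude.Def_Transfer
import Cfsg.Agent.Lib.PGroup.Basic
import Cfsg.Agent.Lib.PGroup.Commutator
import Mathlib

/-!
# Extraspecial groups

* `card_closure_pair_le`, `exists_mulEquiv_closure_pair`: two-generator groups of class two
  with derived subgroup of order `p`.
* `exists_mulEquiv_of_factorization`: gluing isomorphisms of the factors of a central product.
* `xs_*`: facts about extraspecial groups, the splitting `E = ⟨x, y⟩ * C(x, y)`, and the
  classification by `exists_mulEquiv_of_exponent` / `xs_two_classification`.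
* `card_monoidHom_le`: a finite `p`-group has at most `|V|` maps to a group of order `p`.
-/

set_option autoImplicit false

open Subgroup
open scoped commutatorElement

namespace Cfsg.Agent.PGroup

universe u v w

section ClosurePair

variable {G : Type*} [Group G] [Finite G] {H : Type*} [Group H] [Finite H] {p : ℕ}

/-- A group generated by `x` and `y` whose commutator `c` is central of order dividing `p` and
with `x ^ p`, `y ^ p` powers of `c` has order at most `p ^ 3`. -/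
theorem card_closure_pair_le (hp : p.Prime) {x y : G} (hcx : Commute ⁅x, y⁆ x)
    (hcy : Commute ⁅x, y⁆ y) (hc : ⁅x, y⁆ ^ p = 1) {a b : ℕ} (hxp : x ^ p = ⁅x, y⁆ ^ a)
    (hyp : y ^ p = ⁅x, y⁆ ^ b) : Nat.card (closure {x, y} : Subgroup G) ≤ p ^ 3 := by
  have hcomm : ∀ j : ℕ, ⁅x, y⁆ ^ j * (y ^ j * x) = x * y ^ j := fun j => by
    rw [← commutatorElement_pow_right hcy, ← mul_eq_comm_mul_swap]
  set c := ⁅x, y⁆ with hcdef
  let f : Fin p × Fin p × Fin p → G :=
    fun t => x ^ (t.1 : ℕ) * y ^ (t.2.1 : ℕ) * c ^ (t.2.2 : ℕ)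
  have hnf : ∀ i j k : ℕ, x ^ i * y ^ j * c ^ k ∈ Set.range f := by
    intro i j k
    refine ⟨(⟨i % p, Nat.mod_lt _ hp.pos⟩, ⟨j % p, Nat.mod_lt _ hp.pos⟩,
      ⟨(a * (i / p) + b * (j / p) + k) % p, Nat.mod_lt _ hp.pos⟩), ?_⟩
    have hi : x ^ i = x ^ (i % p) * c ^ (a * (i / p)) := by
      rw [pow_mul, ← hxp, ← pow_mul, ← pow_add, Nat.mod_add_div]
    have hj : y ^ j = y ^ (j % p) * c ^ (b * (j / p)) := by
      rw [pow_mul, ← hyp, ← pow_mul, ← pow_add, Nat.mod_add_div]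
    have hsw : Commute (c ^ (a * (i / p))) (y ^ (j % p)) := hcy.pow_pow _ _
    show x ^ (i % p) * y ^ (j % p) * c ^ ((a * (i / p) + b * (j / p) + k) % p) = _
    rw [← pow_eq_pow_mod _ hc, hi, hj, pow_add, pow_add]
    simp only [← mul_assoc]
    rw [mul_assoc (x ^ (i % p)) (c ^ (a * (i / p))) (y ^ (j % p)), hsw.eq, ← mul_assoc]
  have hyx : ∀ j : ℕ, y ^ j * x = x * y ^ j * c ^ (j * (p - 1)) := by
    intro j
    have h1 : c ^ (j * (p - 1)) * c ^ j = 1 := by
      rw [← pow_add, show j * (p - 1) + j = p * j by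
        have := hp.pos
        obtain ⟨q, rfl⟩ : ∃ q, p = q + 1 := ⟨p - 1, by omega⟩
        rw [Nat.add_sub_cancel]; ring, pow_mul, hc, one_pow]
    calc y ^ j * x = c ^ (j * (p - 1)) * (c ^ j * (y ^ j * x)) := by
          rw [← mul_assoc, h1, one_mul]
      _ = c ^ (j * (p - 1)) * (x * y ^ j) := by rw [hcomm]
      _ = _ := (((hcx.mul_right (hcy.pow_right j))).pow_left _).eq
  have hsub : ((closure {x, y} : Subgroup G) : Set G) ⊆ Set.range f := by
    intro g hg
    have hg' : g ∈ Submonoid.closure ({x, y} : Set G) := by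
      rw [← Subgroup.closure_toSubmonoid_of_finite]; exact hg
    induction hg' using Submonoid.closure_induction_right with
    | one => simpa using hnf 0 0 0
    | mul_right g' hg' t ht ih =>
      obtain ⟨⟨i, j, k⟩, rfl⟩ := ih (by rw [← Subgroup.closure_toSubmonoid_of_finite] at hg'; exact hg')
      rcases ht with ht | ht
      · subst t
        have h := hnf ((i : ℕ) + 1) (j : ℕ) ((j : ℕ) * (p - 1) + k)
        convert h using 1
        show x ^ (i : ℕ) * y ^ (j : ℕ) * c ^ (k : ℕ) * x = _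
        rw [mul_assoc _ (c ^ (k : ℕ)) x, (hcx.pow_left k).eq, pow_succ, pow_add]
        simp only [← mul_assoc]
        rw [mul_assoc (x ^ (i : ℕ)) (y ^ (j : ℕ)) x, hyx]
        simp only [← mul_assoc]
      · obtain rfl : t = y := ht
        have h := hnf (i : ℕ) ((j : ℕ) + 1) (k : ℕ)
        convert h using 1
        show x ^ (i : ℕ) * t ^ (j : ℕ) * c ^ (k : ℕ) * t = _
        rw [mul_assoc _ (c ^ (k : ℕ)) t, (hcy.pow_left k).eq, pow_succ]
        simp only [← mul_assoc]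
  refine le_trans (Nat.card_mono (Set.toFinite _) hsub) (le_trans (Finite.card_range_le f) ?_)
  rw [Nat.card_prod, Nat.card_prod, Nat.card_fin, pow_three]

/-- Two groups of order `p ^ 3` generated by pairs with the same power data are isomorphic by an
isomorphism matching the generators. -/
theorem exists_mulEquiv_closure_pair (hp : p.Prime) {x y : G} {x' y' : H}
    (hcx : Commute ⁅x, y⁆ x) (hcy : Commute ⁅x, y⁆ y) (hc : ⁅x, y⁆ ^ p = 1)
    (hcx' : Commute ⁅x', y'⁆ x') (hcy' : Commute ⁅x', y'⁆ y') (hc' : ⁅x', y'⁆ ^ p = 1)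
    {a b : ℕ} (hxp : x ^ p = ⁅x, y⁆ ^ a) (hyp : y ^ p = ⁅x, y⁆ ^ b)
    (hxp' : x' ^ p = ⁅x', y'⁆ ^ a) (hyp' : y' ^ p = ⁅x', y'⁆ ^ b)
    (hG : Nat.card (closure {x, y} : Subgroup G) = p ^ 3)
    (hH : Nat.card (closure {x', y'} : Subgroup H) = p ^ 3) :
    ∃ e : (closure {x, y} : Subgroup G) ≃* (closure {x', y'} : Subgroup H),
      (e ⟨x, Subgroup.subset_closure (Or.inl rfl)⟩ : H) = x' ∧
        (e ⟨y, Subgroup.subset_closure (Or.inr rfl)⟩ : H) = y' := by
  set Γ : Subgroup (G × H) := closure {(x, x'), (y, y')} with hΓ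
  have hcard : Nat.card Γ ≤ p ^ 3 := by
    refine card_closure_pair_le hp (a := a) (b := b) ?_ ?_ ?_ ?_ ?_
    · exact Prod.ext hcx.eq hcx'.eq
    · exact Prod.ext hcy.eq hcy'.eq
    · exact Prod.ext hc hc'
    · exact Prod.ext hxp hxp'
    · exact Prod.ext hyp hyp'
  have hfst : Γ.map (MonoidHom.fst G H) = closure {x, y} := by
    rw [hΓ, MonoidHom.map_closure, Set.image_pair]; rfl
  have hsnd : Γ.map (MonoidHom.snd G H) = closure {x', y'} := by
    rw [hΓ, MonoidHom.map_closure, Set.image_pair]; rfl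
  let e₁ : Γ ≃* (closure {x, y} : Subgroup G) :=
    (MulEquiv.ofBijective ((MonoidHom.fst G H).subgroupMap Γ)
      ((MonoidHom.subgroupMap_surjective _ _).bijective_of_nat_card_le
        (by rw [hfst, hG]; exact hcard))).trans (MulEquiv.subgroupCongr hfst)
  let e₂ : Γ ≃* (closure {x', y'} : Subgroup H) :=
    (MulEquiv.ofBijective ((MonoidHom.snd G H).subgroupMap Γ)
      ((MonoidHom.subgroupMap_surjective _ _).bijective_of_nat_card_le
        (by rw [hsnd, hH]; exact hcard))).trans (MulEquiv.subgroupCongr hsnd)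
  refine ⟨e₁.symm.trans e₂, ?_, ?_⟩
  · have h : e₁.symm ⟨x, Subgroup.subset_closure (Or.inl rfl)⟩ = ⟨(x, x'), Subgroup.subset_closure (Or.inl rfl)⟩ :=
      e₁.symm_apply_eq.mpr (Subtype.ext rfl)
    rw [MulEquiv.trans_apply, h]
    rfl
  · have h : e₁.symm ⟨y, Subgroup.subset_closure (Or.inr rfl)⟩ = ⟨(y, y'), Subgroup.subset_closure (Or.inr rfl)⟩ :=
      e₁.symm_apply_eq.mpr (Subtype.ext rfl)
    rw [MulEquiv.trans_apply, h]
    rfl

/-- Isomorphisms of the two factors of central products which agree on the intersection glue. -/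
theorem exists_mulEquiv_of_factorization (P₁ C₁ : Subgroup G) (P₂ C₂ : Subgroup H)
    (α : P₁ ≃* P₂) (β : C₁ ≃* C₂)
    (hcomm₁ : ∀ a ∈ P₁, ∀ b ∈ C₁, Commute a b) (hcomm₂ : ∀ a ∈ P₂, ∀ b ∈ C₂, Commute a b)
    (h₁ : ∀ g, ∃ a ∈ P₁, ∃ b ∈ C₁, g = a * b) (h₂ : ∀ g, ∃ a ∈ P₂, ∃ b ∈ C₂, g = a * b)
    (hagree : ∀ g (ha : g ∈ P₁) (hb : g ∈ C₁), (α ⟨g, ha⟩ : H) = β ⟨g, hb⟩)
    (hc : Nat.card G = Nat.card H) :
    ∃ e : G ≃* H, ∀ a : P₁, e a = α a := by
  let m : P₁ × C₁ →* G :=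
    P₁.subtype.noncommCoprod C₁.subtype fun a b => hcomm₁ _ a.2 _ b.2
  let F : P₁ × C₁ →* H :=
    (P₂.subtype.comp α.toMonoidHom).noncommCoprod (C₂.subtype.comp β.toMonoidHom)
      fun a b => hcomm₂ _ (α a).2 _ (β b).2
  have hm : Function.Surjective m := fun g => by
    obtain ⟨a, ha, b, hb, rfl⟩ := h₁ g
    exact ⟨(⟨a, ha⟩, ⟨b, hb⟩), rfl⟩
  have hker : m.ker ≤ F.ker := by
    rintro ⟨a, b⟩ h
    have hab : (a : G) * b = 1 := h
    have hb : (a : G) = ((b⁻¹ : C₁) : G) := by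
      rw [Subgroup.coe_inv]; exact mul_eq_one_iff_eq_inv.mp hab
    show (α a : H) * (β b : H) = 1
    have := hagree a a.2 (hb ▸ (b⁻¹).2)
    rw [Subtype.coe_eta] at this
    rw [this, show (⟨(a : G), hb ▸ (b⁻¹).2⟩ : C₁) = b⁻¹ from Subtype.ext hb, map_inv,
      Subgroup.coe_inv, inv_mul_cancel]
  let f : G →* H := m.liftOfSurjective hm ⟨F, hker⟩
  have hf : ∀ t, f (m t) = F t := fun t =>
    MonoidHom.liftOfRightInverse_comp_apply m _ (Function.rightInverse_surjInv hm) ⟨F, hker⟩ t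
  have hsurj : Function.Surjective f := fun g => by
    obtain ⟨a, ha, b, hb, rfl⟩ := h₂ g
    refine ⟨m (α.symm ⟨a, ha⟩, β.symm ⟨b, hb⟩), ?_⟩
    rw [hf]
    show (α (α.symm ⟨a, ha⟩) : H) * (β (β.symm ⟨b, hb⟩) : H) = _
    rw [α.apply_symm_apply, β.apply_symm_apply]
  refine ⟨MulEquiv.ofBijective f (hsurj.bijective_of_nat_card_le hc.le), fun a => ?_⟩
  have h := hf (a, 1)
  rwa [show m (a, 1) = (a : G) from mul_one (a : G), show F (a, 1) = (α a : H) * (β 1 : H) from rfl,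
    map_one, Subgroup.coe_one, mul_one] at h

end ClosurePair

/-- A finite `p`-group has at most as many homomorphisms to a group of order `p` as elements. -/
theorem card_monoidHom_le {p : ℕ} [hp : Fact p.Prime] {C : Type*} [Group C] [Finite C]
    (hC : Nat.card C = p) {V : Type*} [Group V] [Finite V] (hV : IsPGroup p V) :
    Nat.card (V →* C) ≤ Nat.card V := by
  suffices ∀ n (K : Subgroup V), Nat.card K = n → Nat.card (K →* C) ≤ Nat.card K by
    refine le_trans (le_of_eq ?_) (le_trans (this _ ⊤ rfl) (le_of_eq card_top))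
    exact (Nat.card_congr (MulEquiv.monoidHomCongrLeftEquiv (N := C) (Subgroup.topEquiv (G := V)))).symm
  intro n
  induction n using Nat.strong_induction_on with
  | _ n ih =>
  intro K hK
  by_cases hbot : K = ⊥
  · subst hbot
    have : Subsingleton ((⊥ : Subgroup V) →* C) := ⟨fun f g => MonoidHom.ext fun x => by
      rw [Subsingleton.elim x 1, map_one, map_one]⟩
    exact (Finite.card_le_one_iff_subsingleton.mpr this).trans Nat.card_pos
  have : Nontrivial K := K.nontrivial_iff_ne_bot.mpr hbot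
  obtain ⟨M, -, -, hMi⟩ := exists_le_index_eq_prime (hV.to_subgroup K)
    (show (⊥ : Subgroup K) ≠ ⊤ from bot_ne_top)
  have hMc : IsCoatom M := isCoatom_of_index_prime (hMi ▸ hp.out)
  obtain ⟨x, hx⟩ : ∃ x : K, x ∉ M := by
    by_contra h
    push Not at h
    exact hMc.1 ((eq_top_iff' M).mpr h)
  have hcardK : Nat.card M * p = Nat.card K := by rw [← hMi, card_mul_index]
  let M' : Subgroup V := M.map K.subtype
  let eM : M ≃* M' := M.equivMapOfInjective _ K.subtype_injective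
  have hlt : Nat.card M' < n := by
    rw [← hK, ← hcardK, ← Nat.card_congr eM.toEquiv]
    exact lt_mul_of_one_lt_right Nat.card_pos hp.out.one_lt
  have hM' : Nat.card (M →* C) ≤ Nat.card M := by
    rw [Nat.card_congr (MulEquiv.monoidHomCongrLeftEquiv (N := C) eM), Nat.card_congr eM.toEquiv]
    exact ih _ hlt M' rfl
  have : Finite (M →* C) := Finite.of_injective DFunLike.coe DFunLike.coe_injective
  refine le_trans (Nat.card_le_card_of_injective
    (fun f : K →* C => (f.comp M.subtype, f x)) ?_) ?_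
  · intro f g h
    simp only [Prod.mk.injEq] at h
    have htop : M ⊔ zpowers x = ⊤ := hMc.2 _ (lt_of_le_of_ne le_sup_left fun he =>
      hx (he.symm ▸ (le_sup_right (a := M)) (mem_zpowers x)))
    have hle : M ⊔ zpowers x ≤ f.eqLocus g :=
      sup_le (fun m hm => (DFunLike.congr_fun h.1 ⟨m, hm⟩ :)) ((zpowers_le).mpr h.2)
    rw [htop] at hle
    exact MonoidHom.ext fun k => hle (mem_top k)
  · rw [Nat.card_prod, hC, ← hcardK]
    exact Nat.mul_le_mul_right p hM'

section Extraspecial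

variable {E : Type*} [Group E] [Finite E] {p : ℕ} [hp : Fact p.Prime]
  (hE : Cfsg.IsExtraspecial p E)
include hE

omit [Finite E] hp in
theorem xs_commutator_le : commutator E ≤ center E := hE.1.2.2.le

omit [Finite E] hp in
theorem xs_comm_mem (a b : E) : ⁅a, b⁆ ∈ center E :=
  xs_commutator_le hE (commutatorElement_mem_commutator a b)

theorem xs_pow_mem (a : E) : a ^ p ∈ center E := by
  rw [← hE.1.2.1]; exact pow_mem_frattini hE.1.1 a

omit [Finite E] hp in
theorem xs_center_pow {z : E} (hz : z ∈ center E) : z ^ p = 1 := by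
  have := pow_card_eq_one' (G := ↥(center E)) (x := ⟨z, hz⟩)
  rw [hE.2] at this
  exact congrArg Subtype.val this

omit [Finite E] hp in
theorem xs_comm_pow (a b : E) : ⁅a, b⁆ ^ p = 1 := xs_center_pow hE (xs_comm_mem hE a b)

theorem xs_exists_pow_eq {z w : E} (hz : z ∈ center E) (hz1 : z ≠ 1) (hw : w ∈ center E) :
    ∃ k : ℕ, z ^ k = w := by
  have hle : zpowers z ≤ center E := zpowers_le.mpr hz
  have heq : zpowers z = center E := by
    refine eq_of_le_of_card_ge hle ?_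
    rw [hE.2, Nat.card_zpowers,
      orderOf_eq_prime_iff.mpr ⟨xs_center_pow hE hz, hz1⟩]
  rw [← heq, ← mem_powers_iff_mem_zpowers] at hw
  exact hw

omit [Finite E] in
theorem xs_center_ne_top : center E ≠ ⊤ := by
  intro h
  have hcomm : commutator E = ⊥ := by
    rw [_root_.commutator_def, commutator_eq_bot_iff_le_centralizer]
    intro a _
    rw [mem_centralizer_iff]
    intro b _
    exact mem_center_iff.mp (h ▸ mem_top a) b
  have := hE.2
  rw [← hE.1.2.2, hcomm, card_bot] at this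
  exact hp.out.one_lt.ne this

theorem xs_exists_not_mem_center : ∃ x : E, x ∉ center E := by
  by_contra h
  push Not at h
  exact xs_center_ne_top hE ((eq_top_iff' _).mpr h)

/-- Each central element is a commutator with any given noncentral element. -/
theorem xs_exists_comm_eq {x : E} (hx : x ∉ center E) {z : E} (hz : z ∈ center E) :
    ∃ y, ⁅x, y⁆ = z := by
  obtain ⟨y, hy⟩ : ∃ y : E, ⁅x, y⁆ ≠ 1 := by
    by_contra h
    push Not at h
    exact hx (mem_center_iff.mpr fun g => (commutatorElement_eq_one_iff_mul_comm.mp (h g)).symm)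
  obtain ⟨k, hk⟩ := xs_exists_pow_eq hE (xs_comm_mem hE x y) hy hz
  exact ⟨y ^ k, by rw [comm_pow_right (xs_commutator_le hE), hk]⟩

variable {x y : E} (hxy : ⁅x, y⁆ ≠ 1)
include hxy

theorem xs_center_le_closure : center E ≤ closure {x, y} := by
  intro w hw
  obtain ⟨k, rfl⟩ := xs_exists_pow_eq hE (xs_comm_mem hE x y) hxy hw
  refine pow_mem ?_ k
  rw [commutatorElement_def]
  exact mul_mem (mul_mem (mul_mem (Subgroup.subset_closure (Or.inl rfl)) (Subgroup.subset_closure (Or.inr rfl)))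
    (inv_mem (Subgroup.subset_closure (Or.inl rfl)))) (inv_mem (Subgroup.subset_closure (Or.inr rfl)))

theorem xs_card_closure : Nat.card (closure {x, y} : Subgroup E) = p ^ 3 := by
  obtain ⟨a, ha⟩ := xs_exists_pow_eq hE (xs_comm_mem hE x y) hxy (xs_pow_mem hE x)
  obtain ⟨b, hb⟩ := xs_exists_pow_eq hE (xs_comm_mem hE x y) hxy (xs_pow_mem hE y)
  have hC := xs_commutator_le hE
  refine le_antisymm (card_closure_pair_le hp.out (commute_comm hC x y x) (commute_comm hC x y y)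
    (xs_comm_pow hE x y) ha.symm hb.symm) ?_
  set P : Subgroup E := closure {x, y} with hP
  have step : ∀ A B : Subgroup E, A < B → Nat.card A * p ≤ Nat.card B := by
    intro A B h
    obtain ⟨k, hk⟩ := exists_card_eq_pow hE.1.1 A
    obtain ⟨l, hl⟩ := exists_card_eq_pow hE.1.1 B
    have hlt : Nat.card A < Nat.card B :=
      lt_of_not_ge fun hge => h.ne (eq_of_le_of_card_ge h.le hge)
    rw [hk, hl] at hlt ⊢
    rw [← pow_succ]
    exact Nat.pow_le_pow_right hp.out.pos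
      (Nat.succ_le_of_lt ((Nat.pow_lt_pow_iff_right hp.out.one_lt).mp hlt))
  set A : Subgroup E := center E ⊔ zpowers x with hA
  have hAc : A ≤ centralizer {x} :=
    sup_le (fun w hw => mem_centralizer_singleton_iff.mpr ((mem_center_iff.mp hw x).symm))
      (zpowers_le.mpr (mem_centralizer_singleton_iff.mpr rfl))
  have h1 : center E < A := by
    refine lt_of_le_of_ne le_sup_left fun he => hxy ?_
    have hx : x ∈ center E := by
      rw [he]; exact (le_sup_right : zpowers x ≤ A) (mem_zpowers x)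
    exact commutatorElement_eq_one_iff_mul_comm.mpr (mem_center_iff.mp hx y).symm
  have h2 : A < P := by
    refine lt_of_le_of_ne (sup_le (xs_center_le_closure hE hxy)
      (zpowers_le.mpr (Subgroup.subset_closure (Or.inl rfl)))) fun he => hxy ?_
    have hy : y ∈ centralizer {x} := hAc (he ▸ Subgroup.subset_closure (Or.inr rfl))
    exact commutatorElement_eq_one_iff_mul_comm.mpr (mem_centralizer_singleton_iff.mp hy).symm
  have h3 := step _ _ h1
  rw [hE.2] at h3
  calc p ^ 3 = p * p * p := by ring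
    _ ≤ Nat.card A * p := Nat.mul_le_mul_right p h3
    _ ≤ Nat.card P := step _ _ h2

omit [Finite E] hp hE hxy in
theorem mem_centralizer_pair_iff {g : E} :
    g ∈ centralizer ((closure {x, y} : Subgroup E) : Set E) ↔ Commute x g ∧ Commute y g := by
  rw [centralizer_closure, mem_centralizer_iff]
  simp [Commute, SemiconjBy]

theorem xs_factor (g : E) :
    ∃ a ∈ closure {x, y}, ∃ b ∈ centralizer ((closure {x, y} : Subgroup E) : Set E),
      g = a * b := by
  have hC := xs_commutator_le hE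
  set c := ⁅x, y⁆ with hc
  obtain ⟨i, hi⟩ := xs_exists_pow_eq hE (xs_comm_mem hE x y) hxy (xs_comm_mem hE g y)
  obtain ⟨j, hj⟩ := xs_exists_pow_eq hE (xs_comm_mem hE x y) hxy (xs_comm_mem hE g x)
  set h := (x ^ i)⁻¹ * y ^ j with hh
  have hgy : ⁅g * h, y⁆ = 1 := by
    rw [hh, comm_mul_left hC, comm_mul_left hC, comm_inv_left hC, comm_pow_left hC,
      comm_pow_left hC, ← hi, commutatorElement_self, one_pow, mul_one, mul_inv_cancel]
  have hgx : ⁅g * h, x⁆ = 1 := by
    rw [hh, comm_mul_left hC, comm_mul_left hC, comm_inv_left hC, comm_pow_left hC,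
      comm_pow_left hC, ← hj, commutatorElement_self, one_pow, inv_one, one_mul,
      ← commutatorElement_inv x y, inv_pow, mul_inv_cancel]
  have hb : g * h ∈ centralizer ((closure {x, y} : Subgroup E) : Set E) :=
    mem_centralizer_pair_iff.mpr ⟨(commutatorElement_eq_one_iff_mul_comm.mp hgx).symm,
      (commutatorElement_eq_one_iff_mul_comm.mp hgy).symm⟩
  have ha : h⁻¹ ∈ (Subgroup.closure {x, y} : Subgroup E) :=
    inv_mem (mul_mem
      (inv_mem (pow_mem (Subgroup.subset_closure (Set.mem_insert x {y})) i))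
      (pow_mem (Subgroup.subset_closure (Set.mem_insert_of_mem x (Set.mem_singleton y))) j))
  refine ⟨h⁻¹, ha, g * h, hb, ?_⟩
  have hcm : Commute h⁻¹ (g * h) := mem_centralizer_iff.mp hb _ ha
  rw [hcm.eq, mul_inv_cancel_right]

theorem xs_inf_centralizer :
    closure {x, y} ⊓ centralizer ((closure {x, y} : Subgroup E) : Set E) = center E := by
  refine le_antisymm ?_ (le_inf (xs_center_le_closure hE hxy) (center_le_centralizer _))
  rintro g ⟨hg, hgc⟩
  refine mem_center_iff.mpr fun k => ?_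
  obtain ⟨a, ha, b, hb, rfl⟩ := xs_factor hE hxy k
  have h1 : Commute a g := mem_centralizer_iff.mp hgc a ha
  have h2 : Commute g b := mem_centralizer_iff.mp hb g hg
  exact (h1.mul_left h2.symm).eq

theorem xs_card_eq :
    Nat.card E * p =
      p ^ 3 * Nat.card (centralizer ((closure {x, y} : Subgroup E) : Set E)) := by
  set P : Subgroup E := closure {x, y} with hP
  set C : Subgroup E := centralizer (P : Set E) with hC
  let m : P × C →* E :=
    P.subtype.noncommCoprod C.subtype fun a b => mem_centralizer_iff.mp b.2 a a.2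
  have hsurj : Function.Surjective m := fun g => by
    obtain ⟨a, ha, b, hb, rfl⟩ := xs_factor hE hxy g
    exact ⟨(⟨a, ha⟩, ⟨b, hb⟩), rfl⟩
  have hker : Nat.card m.ker = p := by
    rw [← hE.2]
    refine Nat.card_congr (Equiv.ofBijective (fun t => ⟨((t : P × C).1 : E), ?_⟩) ⟨?_, ?_⟩)
    · have ht : ((t : P × C).1 : E) * ((t : P × C).2 : E) = 1 := t.2
      rw [← xs_inf_centralizer hE hxy]
      refine ⟨(t : P × C).1.2, ?_⟩
      rw [mul_eq_one_iff_eq_inv.mp ht]
      exact Subgroup.inv_mem C (t : P × C).2.2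
    · intro s t hst
      have h1 : ((s : P × C).1 : E) = ((t : P × C).1 : E) :=
        congrArg (fun q : center E => (q : E)) hst
      have hs : ((s : P × C).1 : E) * ((s : P × C).2 : E) = 1 := s.2
      have ht : ((t : P × C).1 : E) * ((t : P × C).2 : E) = 1 := t.2
      refine Subtype.ext (Prod.ext (Subtype.ext h1) (Subtype.ext ?_))
      exact mul_left_cancel ((h1 ▸ hs).trans ht.symm)
    · rintro ⟨w, hw⟩
      rw [← xs_inf_centralizer hE hxy] at hw
      exact ⟨⟨(⟨w, hw.1⟩, ⟨w⁻¹, inv_mem hw.2⟩), mul_inv_cancel w⟩, rfl⟩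
  have h := card_mul_index m.ker
  rw [index_ker, hker, Nat.card_congr (Equiv.subtypeUnivEquiv (p := (· ∈ m.range)) hsurj),
    Nat.card_prod, xs_card_closure hE hxy] at h
  rw [← h, mul_comm]

theorem xs_centralizer_cases :
    centralizer ((closure {x, y} : Subgroup E) : Set E) = center E ∨
      Cfsg.IsExtraspecial p (centralizer ((closure {x, y} : Subgroup E) : Set E)) := by
  set P : Subgroup E := closure {x, y} with hP
  set C : Subgroup E := centralizer (P : Set E) with hCdef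
  have hC := xs_commutator_le hE
  have hcen : (center C).map C.subtype = center E := by
    refine le_antisymm ?_ fun w hw => ?_
    · rintro _ ⟨w, hw, rfl⟩
      refine mem_center_iff.mpr fun k => ?_
      obtain ⟨a, ha, b, hb, rfl⟩ := xs_factor hE hxy k
      have h1 : Commute a (w : E) := mem_centralizer_iff.mp w.2 a ha
      have h2 : Commute b (w : E) := congrArg Subtype.val (mem_center_iff.mp hw ⟨b, hb⟩)
      exact (h1.mul_left h2).eq
    · exact ⟨⟨w, center_le_centralizer _ hw⟩,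
        mem_center_iff.mpr fun k => Subtype.ext (mem_center_iff.mp hw k), rfl⟩
  have hcard : Nat.card (center C) = p := by
    rw [← hE.2, ← hcen, card_map_of_injective C.subtype_injective]
  by_cases hab : commutator C = ⊥
  · left
    refine le_antisymm (fun w hw => ?_) (center_le_centralizer _)
    rw [← hcen]
    refine ⟨⟨w, hw⟩, mem_center_iff.mpr fun k => ?_, rfl⟩
    exact commutatorElement_eq_one_iff_mul_comm.mp
      (mem_bot.mp (hab ▸ commutatorElement_mem_commutator k ⟨w, hw⟩))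
  right
  have hcomm : commutator C ≤ center C := by
    rw [_root_.commutator_def, commutator_le]
    intro a _ b _
    exact mem_center_iff.mpr fun k => Subtype.ext (mem_center_iff.mp (xs_comm_mem hE (a : E) b) k)
  have hpC : IsPGroup p C := hE.1.1.to_subgroup C
  have heq : commutator C = center C :=
    eq_of_le_of_card_ge hcomm (hcard ▸ le_card_of_ne_bot hpC hab)
  refine ⟨⟨hpC, le_antisymm ?_ ?_, heq⟩, hcard⟩
  · rw [frattini_eq hpC]
    refine sup_le ((closure_le _).mpr ?_) hcomm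
    rintro _ ⟨a, rfl⟩
    exact mem_center_iff.mpr fun k => Subtype.ext (mem_center_iff.mp (xs_pow_mem hE (a : E)) k)
  · rw [← heq]; exact commutator_le_frattini hpC

end Extraspecial

/-- Extraspecial groups with matching pairs and isomorphic centralisers of the pairs. -/
theorem xs_glue {E₁ : Type u} {E₂ : Type v} [Group E₁] [Group E₂] [Finite E₁] [Finite E₂] {p : ℕ}
    [hp : Fact p.Prime] (h₁ : Cfsg.IsExtraspecial p E₁) (h₂ : Cfsg.IsExtraspecial p E₂)
    {x y : E₁} {x' y' : E₂} (hxy : ⁅x, y⁆ ≠ 1) (hxy' : ⁅x', y'⁆ ≠ 1)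
    {a b : ℕ} (hxp : x ^ p = ⁅x, y⁆ ^ a) (hyp : y ^ p = ⁅x, y⁆ ^ b)
    (hxp' : x' ^ p = ⁅x', y'⁆ ^ a) (hyp' : y' ^ p = ⁅x', y'⁆ ^ b)
    (hc : Nat.card E₁ = Nat.card E₂)
    (hβ : Cfsg.IsExtraspecial p (centralizer ((closure {x, y} : Subgroup E₁) : Set E₁)) →
      Cfsg.IsExtraspecial p (centralizer ((closure {x', y'} : Subgroup E₂) : Set E₂)) →
      ∃ β : centralizer ((closure {x, y} : Subgroup E₁) : Set E₁) ≃*
          centralizer ((closure {x', y'} : Subgroup E₂) : Set E₂),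
        ∀ h, (β ⟨⁅x, y⁆, h⟩ : E₂) = ⁅x', y'⁆) :
    ∃ e : E₁ ≃* E₂, e ⁅x, y⁆ = ⁅x', y'⁆ := by
  have hC₁ := xs_commutator_le h₁
  have hC₂ := xs_commutator_le h₂
  obtain ⟨α, hαx, hαy⟩ := exists_mulEquiv_closure_pair hp.out (commute_comm hC₁ x y x)
    (commute_comm hC₁ x y y) (xs_comm_pow h₁ x y) (commute_comm hC₂ x' y' x')
    (commute_comm hC₂ x' y' y') (xs_comm_pow h₂ x' y') hxp hyp hxp' hyp'
    (xs_card_closure h₁ hxy) (xs_card_closure h₂ hxy')
  have hαc : ∀ h, (α ⟨⁅x, y⁆, h⟩ : E₂) = ⁅x', y'⁆ := fun h => by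
    have e : (⟨⁅x, y⁆, h⟩ : (closure {x, y} : Subgroup E₁)) =
        ⁅(⟨x, Subgroup.subset_closure (Or.inl rfl)⟩ : (closure {x, y} : Subgroup E₁)),
          ⟨y, Subgroup.subset_closure (Or.inr rfl)⟩⁆ := rfl
    rw [e, map_commutatorElement]
    exact congrArg₂ (fun s t : E₂ => ⁅s, t⁆) hαx hαy
  have hcard₁ := xs_card_eq h₁ hxy
  have hcard₂ := xs_card_eq h₂ hxy'
  have hC12 : Nat.card (centralizer ((closure {x, y} : Subgroup E₁) : Set E₁)) =
      Nat.card (centralizer ((closure {x', y'} : Subgroup E₂) : Set E₂)) := by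
    rw [hc, hcard₂] at hcard₁
    exact (Nat.eq_of_mul_eq_mul_left (pow_pos hp.out.pos 3) hcard₁).symm
  have hmem : ⁅x, y⁆ ∈ (Subgroup.closure {x, y} : Subgroup E₁) :=
    xs_center_le_closure h₁ hxy (xs_comm_mem h₁ x y)
  have top_of_center : ∀ {F : Type u} [Group F] [Finite F] (_ : Cfsg.IsExtraspecial p F) {s t : F},
      ⁅s, t⁆ ≠ 1 → centralizer ((closure {s, t} : Subgroup F) : Set F) = center F →
        closure ({s, t} : Set F) = ⊤ := by
    intro F _ _ hF s t hst hC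
    refine eq_top_of_le_card _ ?_
    have := xs_card_eq hF hst
    rw [hC, hF.2] at this
    rw [xs_card_closure hF hst, Nat.eq_of_mul_eq_mul_right hp.out.pos this]
  rcases xs_centralizer_cases h₁ hxy with hz | hx₁
  · have hP₁ := top_of_center h₁ hxy hz
    have hP₂ : closure ({x', y'} : Set E₂) = ⊤ := by
      refine eq_top_of_le_card _ ?_
      rw [xs_card_closure h₂ hxy', ← hc, ← xs_card_closure h₁ hxy, hP₁, card_top]
    refine ⟨((MulEquiv.subgroupCongr hP₁).trans Subgroup.topEquiv).symm.trans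
      (α.trans ((MulEquiv.subgroupCongr hP₂).trans Subgroup.topEquiv)), ?_⟩
    exact hαc hmem
  rcases xs_centralizer_cases h₂ hxy' with hz | hx₂
  · exfalso
    rw [hz, h₂.2, ← hx₁.2] at hC12
    exact xs_center_ne_top hx₁ (eq_top_of_le_card _ hC12.le)
  obtain ⟨β, hβ⟩ := hβ hx₁ hx₂
  have hagree : ∀ g (hgP : g ∈ (Subgroup.closure {x, y} : Subgroup E₁))
      (hgC : g ∈ centralizer ((closure {x, y} : Subgroup E₁) : Set E₁)),
      (α ⟨g, hgP⟩ : E₂) = β ⟨g, hgC⟩ := by
    intro g hgP hgC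
    have hg : g ∈ center E₁ := xs_inf_centralizer h₁ hxy ▸ ⟨hgP, hgC⟩
    obtain ⟨k, rfl⟩ := xs_exists_pow_eq h₁ (xs_comm_mem h₁ x y) hxy hg
    have hmemC : ⁅x, y⁆ ∈ centralizer ((closure {x, y} : Subgroup E₁) : Set E₁) :=
      center_le_centralizer _ (xs_comm_mem h₁ x y)
    rw [show (⟨⁅x, y⁆ ^ k, hgP⟩ : (closure {x, y} : Subgroup E₁)) = ⟨⁅x, y⁆, hmem⟩ ^ k from rfl,
      show (⟨⁅x, y⁆ ^ k, hgC⟩ : centralizer ((closure {x, y} : Subgroup E₁) : Set E₁)) =
        ⟨⁅x, y⁆, hmemC⟩ ^ k from rfl, map_pow, map_pow, Subgroup.coe_pow, Subgroup.coe_pow, hαc, hβ]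
  obtain ⟨e, he⟩ := exists_mulEquiv_of_factorization _ _ _ _ α β
    (fun a ha b hb => mem_centralizer_iff.mp hb a ha)
    (fun a ha b hb => mem_centralizer_iff.mp hb a ha)
    (xs_factor h₁ hxy) (xs_factor h₂ hxy') hagree hc
  exact ⟨e, (he ⟨_, hmem⟩).trans (hαc hmem)⟩

theorem xs_card_centralizer_lt {E : Type*} [Group E] [Finite E] {p : ℕ} [hp : Fact p.Prime]
    (hE : Cfsg.IsExtraspecial p E) {x y : E} (hxy : ⁅x, y⁆ ≠ 1) :
    Nat.card (centralizer ((closure {x, y} : Subgroup E) : Set E)) < Nat.card E := by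
  refine Nat.lt_of_mul_lt_mul_right (a := p) ?_
  rw [xs_card_eq hE hxy, mul_comm (p ^ 3)]
  refine Nat.mul_lt_mul_of_pos_left ?_ Nat.card_pos
  exact lt_self_pow₀ hp.out.one_lt (by norm_num)

theorem xs_card_pow {p : ℕ} [hp : Fact p.Prime] :
    ∀ (n : ℕ) {E : Type u} [Group E] [Finite E], Cfsg.IsExtraspecial p E → Nat.card E = n →
      ∃ k : ℕ, 1 ≤ k ∧ n = p ^ (2 * k + 1) := by
  intro n
  induction n using Nat.strong_induction_on with
  | _ n ih =>
  intro E _ _ hE hn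
  obtain ⟨x, hx⟩ := xs_exists_not_mem_center hE
  obtain ⟨z, hz, hz1, -⟩ := exists_mem_pow_eq_one hE.1.1 (H := center E) (fun hb => by
    have := hE.2; rw [hb, card_bot] at this; exact hp.out.one_lt.ne this)
  obtain ⟨y, rfl⟩ := xs_exists_comm_eq hE hx hz
  have hcard := xs_card_eq hE hz1
  rcases xs_centralizer_cases hE hz1 with hC | hC
  · refine ⟨1, le_rfl, ?_⟩
    rw [hC, hE.2, hn] at hcard
    simpa using Nat.eq_of_mul_eq_mul_right hp.out.pos hcard
  obtain ⟨k, hk, hk'⟩ := ih _ (hn ▸ xs_card_centralizer_lt hE hz1) hC rfl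
  refine ⟨k + 1, by omega, ?_⟩
  rw [hk', hn] at hcard
  refine Nat.eq_of_mul_eq_mul_right hp.out.pos (hcard.trans ?_)
  ring

/-- Extraspecial groups of exponent `p` of the same order are isomorphic. -/
theorem exists_mulEquiv_of_exponent {p : ℕ} [hp : Fact p.Prime] :
    ∀ (n : ℕ) {E₁ : Type u} {E₂ : Type v} [Group E₁] [Group E₂] [Finite E₁] [Finite E₂],
      Cfsg.IsExtraspecial p E₁ → Cfsg.IsExtraspecial p E₂ → (∀ g : E₁, g ^ p = 1) →
      (∀ g : E₂, g ^ p = 1) → Nat.card E₁ = n → Nat.card E₂ = n →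
      ∀ z₁ ∈ center E₁, z₁ ≠ 1 → ∀ z₂ ∈ center E₂, z₂ ≠ 1 → ∃ e : E₁ ≃* E₂, e z₁ = z₂ := by
  intro n
  induction n using Nat.strong_induction_on with
  | _ n ih =>
  intro E₁ E₂ _ _ _ _ h₁ h₂ he₁ he₂ hn₁ hn₂ z₁ hz₁ hz₁1 z₂ hz₂ hz₂1
  obtain ⟨x, hx⟩ := xs_exists_not_mem_center h₁
  obtain ⟨y, rfl⟩ := xs_exists_comm_eq h₁ hx hz₁
  obtain ⟨x', hx'⟩ := xs_exists_not_mem_center h₂
  obtain ⟨y', rfl⟩ := xs_exists_comm_eq h₂ hx' hz₂
  refine xs_glue h₁ h₂ hz₁1 hz₂1 (a := 0) (b := 0) (by simp [he₁]) (by simp [he₁])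
    (by simp [he₂]) (by simp [he₂]) (hn₁.trans hn₂.symm) fun hC₁ hC₂ => ?_
  have hcard₁ := xs_card_eq h₁ hz₁1
  have hcard₂ := xs_card_eq h₂ hz₂1
  rw [hn₁] at hcard₁
  rw [hn₂, hcard₁] at hcard₂
  have hm₁ : ⁅x, y⁆ ∈ centralizer ((closure {x, y} : Subgroup E₁) : Set E₁) :=
    center_le_centralizer _ hz₁
  have hm₂ : ⁅x', y'⁆ ∈ centralizer ((closure {x', y'} : Subgroup E₂) : Set E₂) :=
    center_le_centralizer _ hz₂
  obtain ⟨β, hβ⟩ := ih _ (hn₁ ▸ xs_card_centralizer_lt h₁ hz₁1) hC₁ hC₂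
    (fun g => Subtype.ext (he₁ g)) (fun g => Subtype.ext (he₂ g)) rfl
    (Nat.eq_of_mul_eq_mul_left (pow_pos hp.out.pos 3) hcard₂).symm
    ⟨_, hm₁⟩ (mem_center_iff.mpr fun k => Subtype.ext (mem_center_iff.mp hz₁ k))
    (fun h => hz₁1 (congrArg Subtype.val h))
    ⟨_, hm₂⟩ (mem_center_iff.mpr fun k => Subtype.ext (mem_center_iff.mp hz₂ k))
    (fun h => hz₂1 (congrArg Subtype.val h))
  exact ⟨β, fun h => congrArg Subtype.val hβ⟩

section Two

variable {E : Type*} [Group E] [Finite E] (hE : Cfsg.IsExtraspecial 2 E)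
include hE

omit [Finite E] in
theorem xs_two_eq_of_mem_center {a b : E} (ha : a ∈ center E) (ha1 : a ≠ 1) (hb : b ∈ center E)
    (hb1 : b ≠ 1) : a = b := by
  obtain ⟨c, hc, huniq⟩ := (Nat.card_eq_two_iff' (⟨1, one_mem _⟩ : center E)).mp hE.2
  exact congrArg Subtype.val ((huniq ⟨a, ha⟩ (fun h => ha1 (congrArg Subtype.val h))).trans
    (huniq ⟨b, hb⟩ (fun h => hb1 (congrArg Subtype.val h))).symm)

/-- A noncentral involution lies in a dihedral pair. -/
theorem xs_two_exists_pair {x : E} (hx : x ∉ center E) (hx2 : x ^ 2 = 1) :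
    ∃ y : E, ⁅x, y⁆ ≠ 1 ∧ y ^ 2 = 1 := by
  obtain ⟨y, hy⟩ : ∃ y : E, ⁅x, y⁆ ≠ 1 := by
    by_contra h
    push Not at h
    exact hx (mem_center_iff.mpr fun g => (commutatorElement_eq_one_iff_mul_comm.mp (h g)).symm)
  by_cases hy2 : y ^ 2 = 1
  · exact ⟨y, hy, hy2⟩
  have hC := xs_commutator_le hE
  have heq : y ^ 2 = ⁅x, y⁆ :=
    xs_two_eq_of_mem_center hE (xs_pow_mem hE y) hy2 (xs_comm_mem hE x y) hy
  refine ⟨x * y, ?_, ?_⟩
  · rw [comm_mul_right hC, commutatorElement_self, one_mul]; exact hy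
  · rw [mul_pow_classTwo hC, hx2, one_mul, heq, Nat.choose_self, pow_one,
      ← commutatorElement_inv x y, mul_inv_cancel]

/-- Only for order eight can all noncentral elements have order four. -/
theorem xs_two_card_of_no_involution (h : ∀ x : E, x ^ 2 = 1 → x ∈ center E) :
    Nat.card E = 8 ∧ ∃ x y : E, ⁅x, y⁆ ≠ 1 ∧ x ^ 2 = ⁅x, y⁆ ∧ y ^ 2 = ⁅x, y⁆ := by
  obtain ⟨x, hx⟩ := xs_exists_not_mem_center hE
  obtain ⟨y, hy⟩ : ∃ y : E, ⁅x, y⁆ ≠ 1 := by
    by_contra hh
    push Not at hh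
    exact hx (mem_center_iff.mpr fun g => (commutatorElement_eq_one_iff_mul_comm.mp (hh g)).symm)
  have hsq : ∀ a : E, a ∉ center E → a ^ 2 = ⁅x, y⁆ := fun a ha =>
    xs_two_eq_of_mem_center hE (xs_pow_mem hE a) (fun h2 => ha (h a h2)) (xs_comm_mem hE x y) hy
  have hy' : y ∉ center E := fun hh =>
    hy (commutatorElement_eq_one_iff_mul_comm.mpr (mem_center_iff.mp hh x))
  refine ⟨?_, x, y, hy, hsq x hx, hsq y hy'⟩
  rcases xs_centralizer_cases hE hy with hC | hC
  · have := xs_card_eq hE hy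
    rw [hC, hE.2] at this
    omega
  exfalso
  obtain ⟨a, ha⟩ := xs_exists_not_mem_center hC
  have ha' : (a : E) ∉ center E := fun hh =>
    ha (mem_center_iff.mpr fun k => Subtype.ext (mem_center_iff.mp hh k))
  have hcm : Commute x (a : E) := (mem_centralizer_pair_iff.mp a.2).1
  have hxa : x * (a : E) ∈ center E := by
    refine h _ ?_
    rw [hcm.mul_pow, hsq x hx, hsq a ha', ← pow_two, xs_center_pow hE (xs_comm_mem hE x y)]
  refine hy (commutatorElement_eq_one_iff_mul_comm.mpr ?_)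
  have hxC : x ∈ centralizer ((closure {x, y} : Subgroup E) : Set E) := by
    have := mul_mem (center_le_centralizer ((closure {x, y} : Subgroup E) : Set E) hxa) (inv_mem a.2)
    rwa [mul_inv_cancel_right] at this
  exact (mem_centralizer_pair_iff.mp hxC).2.symm.eq

end Two

/-- Two extraspecial groups of order eight with the same behaviour of involutions. -/
theorem xs_two_small {A : Type u} {B : Type v} [Group A] [Group B] [Finite A] [Finite B]
    (hA : Cfsg.IsExtraspecial 2 A) (hB : Cfsg.IsExtraspecial 2 B) (cA : Nat.card A = 8)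
    (cB : Nat.card B = 8)
    (hiff : (∀ x : A, x ^ 2 = 1 → x ∈ center A) ↔ (∀ x : B, x ^ 2 = 1 → x ∈ center B)) :
    Nonempty (A ≃* B) := by
  have noC : ∀ {x y : A}, ⁅x, y⁆ ≠ 1 →
      ¬ Cfsg.IsExtraspecial 2 (centralizer ((closure {x, y} : Subgroup A) : Set A)) := by
    intro x y hxy hC
    have := xs_card_eq hA hxy
    obtain ⟨k, hk, hk'⟩ := xs_card_pow _ hC rfl
    rw [cA, hk'] at this
    have h2 : 2 ^ 3 ≤ 2 ^ (2 * k + 1) := Nat.pow_le_pow_right two_pos (by omega)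
    omega
  by_cases hA' : ∀ x : A, x ^ 2 = 1 → x ∈ center A
  · obtain ⟨-, x, y, hxy, hx, hy⟩ := xs_two_card_of_no_involution hA hA'
    obtain ⟨-, x', y', hxy', hx', hy'⟩ := xs_two_card_of_no_involution hB (hiff.mp hA')
    obtain ⟨e, -⟩ := xs_glue hA hB hxy hxy' (a := 1) (b := 1) (by rw [hx, pow_one])
      (by rw [hy, pow_one]) (by rw [hx', pow_one]) (by rw [hy', pow_one]) (cA.trans cB.symm)
      (fun hC _ => (noC hxy hC).elim)
    exact ⟨e⟩
  · have hB' := mt hiff.mpr hA'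
    push Not at hA' hB'
    obtain ⟨x, hx2, hx⟩ := hA'
    obtain ⟨x', hx2', hx'⟩ := hB'
    obtain ⟨y, hy, hy2⟩ := xs_two_exists_pair hA hx hx2
    obtain ⟨y', hy', hy2'⟩ := xs_two_exists_pair hB hx' hx2'
    obtain ⟨e, -⟩ := xs_glue hA hB hy hy' (a := 0) (b := 0) (by rw [hx2, pow_zero])
      (by rw [hy2, pow_zero]) (by rw [hx2', pow_zero]) (by rw [hy2', pow_zero])
      (cA.trans cB.symm) (fun hC _ => (noC hy hC).elim)
    exact ⟨e⟩

theorem xs_two_pair {A : Type u} [Group A] [Finite A] (hA : Cfsg.IsExtraspecial 2 A) {n : ℕ}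
    (cA : Nat.card A = n) (hn8 : n ≠ 8) :
    ∃ x y : A, ⁅x, y⁆ ≠ 1 ∧ x ^ 2 = 1 ∧ y ^ 2 = 1 ∧
      Nat.card (centralizer ((closure {x, y} : Subgroup A) : Set A)) * 8 = n * 2 ∧
      Cfsg.IsExtraspecial 2 (centralizer ((closure {x, y} : Subgroup A) : Set A)) := by
  obtain ⟨x, hx2, hx⟩ : ∃ x : A, x ^ 2 = 1 ∧ x ∉ center A := by
    by_contra h
    push Not at h
    exact hn8 (cA ▸ (xs_two_card_of_no_involution hA h).1)
  obtain ⟨y, hy, hy2⟩ := xs_two_exists_pair hA hx hx2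
  have hcd := xs_card_eq hA hy
  rw [cA] at hcd
  refine ⟨x, y, hy, hx2, hy2, by omega, ?_⟩
  refine (xs_centralizer_cases hA hy).resolve_left fun hC => hn8 ?_
  rw [hC, hA.2] at hcd
  omega

theorem xs_two_glue {A : Type u} {B : Type v} [Group A] [Group B] [Finite A] [Finite B]
    (hA : Cfsg.IsExtraspecial 2 A) (hB : Cfsg.IsExtraspecial 2 B) {n : ℕ} (cA : Nat.card A = n)
    (cB : Nat.card B = n) {x y : A} {x' y' : B} (hxy : ⁅x, y⁆ ≠ 1) (hxy' : ⁅x', y'⁆ ≠ 1)
    (hx : x ^ 2 = 1) (hy : y ^ 2 = 1) (hx' : x' ^ 2 = 1) (hy' : y' ^ 2 = 1)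
    (hne : Nonempty (centralizer ((closure {x, y} : Subgroup A) : Set A) ≃*
      centralizer ((closure {x', y'} : Subgroup B) : Set B))) :
    Nonempty (A ≃* B) := by
  obtain ⟨β⟩ := hne
  obtain ⟨e, -⟩ := xs_glue hA hB hxy hxy' (a := 0) (b := 0) (by rw [hx, pow_zero])
    (by rw [hy, pow_zero]) (by rw [hx', pow_zero]) (by rw [hy', pow_zero])
    (cA.trans cB.symm) fun _ hD => ⟨β, fun h => by
      have hm : ∀ k, k * (⟨⁅x, y⁆, h⟩ :
          centralizer ((closure {x, y} : Subgroup A) : Set A)) = ⟨⁅x, y⁆, h⟩ * k :=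
        fun k => Subtype.ext (mem_center_iff.mp (xs_comm_mem hA x y) k)
      have h2 := center_le_centralizer ((closure {x', y'} : Subgroup B) : Set B)
        (xs_comm_mem hB x' y')
      refine congrArg Subtype.val (xs_two_eq_of_mem_center hD (b := ⟨⁅x', y'⁆, h2⟩) ?_ ?_ ?_ ?_)
      · rw [mem_center_iff]
        intro k
        rw [← β.apply_symm_apply k, ← map_mul, ← map_mul, hm]
      · exact fun h1 => hxy (congrArg Subtype.val ((map_eq_one_iff β β.injective).mp h1))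
      · exact mem_center_iff.mpr fun k => Subtype.ext (mem_center_iff.mp (xs_comm_mem hB x' y') k)
      · exact fun h1 => hxy' (congrArg Subtype.val h1)⟩
  exact ⟨e⟩

/-- Of three extraspecial `2`-groups of the same order, two are isomorphic. -/
theorem xs_two_classification :
    ∀ (n : ℕ) {E₁ : Type u} {E₂ : Type v} {E₃ : Type w} [Group E₁] [Group E₂] [Group E₃]
      [Finite E₁] [Finite E₂] [Finite E₃], Cfsg.IsExtraspecial 2 E₁ → Cfsg.IsExtraspecial 2 E₂ →
      Cfsg.IsExtraspecial 2 E₃ → Nat.card E₁ = n → Nat.card E₂ = n → Nat.card E₃ = n →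
      Nonempty (E₁ ≃* E₂) ∨ Nonempty (E₂ ≃* E₃) ∨ Nonempty (E₁ ≃* E₃) := by
  intro n
  induction n using Nat.strong_induction_on with
  | _ n ih =>
  intro E₁ E₂ E₃ _ _ _ _ _ _ h₁ h₂ h₃ c₁ c₂ c₃
  by_cases hn8 : n = 8
  · subst hn8
    by_cases q₁ : ∀ x : E₁, x ^ 2 = 1 → x ∈ center E₁ <;>
      by_cases q₂ : ∀ x : E₂, x ^ 2 = 1 → x ∈ center E₂ <;>
      by_cases q₃ : ∀ x : E₃, x ^ 2 = 1 → x ∈ center E₃
    · exact Or.inl (xs_two_small h₁ h₂ c₁ c₂ (iff_of_true q₁ q₂))
    · exact Or.inl (xs_two_small h₁ h₂ c₁ c₂ (iff_of_true q₁ q₂))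
    · exact Or.inr (Or.inr (xs_two_small h₁ h₃ c₁ c₃ (iff_of_true q₁ q₃)))
    · exact Or.inr (Or.inl (xs_two_small h₂ h₃ c₂ c₃ (iff_of_false q₂ q₃)))
    · exact Or.inr (Or.inl (xs_two_small h₂ h₃ c₂ c₃ (iff_of_true q₂ q₃)))
    · exact Or.inr (Or.inr (xs_two_small h₁ h₃ c₁ c₃ (iff_of_false q₁ q₃)))
    · exact Or.inl (xs_two_small h₁ h₂ c₁ c₂ (iff_of_false q₁ q₂))
    · exact Or.inl (xs_two_small h₁ h₂ c₁ c₂ (iff_of_false q₁ q₂))
  obtain ⟨x₁, y₁, a₁, s₁, t₁, k₁, hC₁⟩ := xs_two_pair h₁ c₁ hn8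
  obtain ⟨x₂, y₂, a₂, s₂, t₂, k₂, hC₂⟩ := xs_two_pair h₂ c₂ hn8
  obtain ⟨x₃, y₃, a₃, s₃, t₃, k₃, hC₃⟩ := xs_two_pair h₃ c₃ hn8
  rcases ih _ (c₁ ▸ xs_card_centralizer_lt h₁ a₁) hC₁ hC₂ hC₃ rfl (by omega) (by omega) with
    h | h | h
  · exact Or.inl (xs_two_glue h₁ h₂ c₁ c₂ a₁ a₂ s₁ t₁ s₂ t₂ h)
  · exact Or.inr (Or.inl (xs_two_glue h₂ h₃ c₂ c₃ a₂ a₃ s₂ t₂ s₃ t₃ h))
  · exact Or.inr (Or.inr (xs_two_glue h₁ h₃ c₁ c₃ a₁ a₃ s₁ t₁ s₃ t₃ h))

end Cfsg.Agent.PGroup
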