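import Cfsg.Agent.Lib.PGroup.Basic
import Cfsg.Agent.Lib.PGroup.Commutator
import Cfsg.Agent.Lib.Transfer.Focal
import Cfsg.Agent.FG78.MaximalClass
import Mathlib

/-!
# `2`-groups of maximal class

`X` of order `2 ^ n`, `3 ≤ n`: maximal class, a commutator factor group of order four, and (as a
consequence) a cyclic subgroup of index two with the structure of `X` modulo the centre.
-/

set_option autoImplicit false

open Subgroup
open scoped commutatorElement

namespace Cfsg.Agent.PGroup

variable {X : Type*} [Group X] [Finite X]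

/-- For an abelian maximal subgroup `M` and `|X : X'| = 4`, at most two elements of `M` commute
with an element outside `M`. -/
theorem card_inf_centralizer_le_two {M : Subgroup X} (hMc : IsMulCommutative M) (hM : M.index = 2)
    (h4 : (commutator X).index = 4) {x : X} (hx : x ∉ M) :
    Nat.card (M ⊓ centralizer ({x} : Set X) : Subgroup X) ≤ 2 := by
  haveI : M.Normal := normal_of_index_eq_two hM
  have hcm : ∀ {a b : X}, a ∈ M → b ∈ M → Commute a b := fun {a b} ha hb =>
    congrArg Subtype.val (hMc.is_comm.comm ⟨a, ha⟩ ⟨b, hb⟩)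
  let φ : M →* M := MonoidHom.mk'
    (fun m => ⟨x * m * x⁻¹ * (m : X)⁻¹,
      mul_mem (Normal.conj_mem inferInstance _ m.2 x) (inv_mem m.2)⟩) fun a b => Subtype.ext <| by
    show x * ((a : X) * b) * x⁻¹ * ((a : X) * b)⁻¹ =
      x * a * x⁻¹ * (a : X)⁻¹ * (x * b * x⁻¹ * (b : X)⁻¹)
    have h := hcm (inv_mem a.2)
      (mul_mem (Normal.conj_mem (H := M) inferInstance _ b.2 x) (inv_mem b.2))
    calc x * ((a : X) * b) * x⁻¹ * ((a : X) * b)⁻¹
        = x * a * x⁻¹ * ((x * b * x⁻¹ * (b : X)⁻¹) * (a : X)⁻¹) := by group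
      _ = _ := by rw [← h.eq]; group
  set R : Subgroup X := φ.range.map M.subtype with hR
  have htop : M ⊔ zpowers x = ⊤ :=
    (isCoatom_of_index_prime (hM ▸ Nat.prime_two)).2 _ (lt_of_le_of_ne le_sup_left fun he =>
      hx (he.symm ▸ (le_sup_right (a := M)) (mem_zpowers x)))
  have hRM : R ≤ M := map_subtype_le _
  have hconjx : ∀ r ∈ R, x * r * x⁻¹ ∈ R := by
    rintro _ ⟨_, ⟨m, rfl⟩, rfl⟩
    refine ⟨φ ⟨x * m * x⁻¹, Normal.conj_mem inferInstance _ m.2 x⟩, ⟨_, rfl⟩, ?_⟩
    show x * (x * m * x⁻¹) * x⁻¹ * (x * m * x⁻¹)⁻¹ = x * (x * m * x⁻¹ * (m : X)⁻¹) * x⁻¹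
    group
  haveI hRn : R.Normal := by
    rw [← normalizer_eq_top_iff, eq_top_iff, ← htop]
    refine sup_le (fun m hm => ?_) (zpowers_le.mpr ?_)
    · rw [mem_normalizer_iff]
      intro r
      constructor
      · intro hr
        rwa [(hcm hm (hRM hr)).eq, mul_inv_cancel_right]
      · intro hr
        have h1 := hcm hm (hRM hr)
        have : r = m * r * m⁻¹ := by
          calc r = m⁻¹ * ((m * r * m⁻¹) * m) := by group
            _ = m⁻¹ * (m * (m * r * m⁻¹)) := by rw [h1.eq]
            _ = _ := by group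
        rwa [this]
    · rw [mem_normalizer_iff_map_conj_eq]
      refine eq_of_le_of_card_ge ?_ (card_map_of_injective (MulAut.conj x).injective).ge
      rintro _ ⟨r, hr, rfl⟩
      exact hconjx r hr
  have hle : commutator X ≤ R := by
    rw [← Normal.quotient_commutative_iff_commutator_le]
    have hgen : ∀ g : X, (∀ m ∈ M, (g : X ⧸ R) * (m : X ⧸ R) = (m : X ⧸ R) * (g : X ⧸ R)) →
        (g : X ⧸ R) * (x : X ⧸ R) = (x : X ⧸ R) * (g : X ⧸ R) →
        (g : X ⧸ R) ∈ center (X ⧸ R) := by
      intro g hg hgx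
      rw [mem_center_iff]
      intro q
      obtain ⟨k, rfl⟩ := QuotientGroup.mk_surjective q
      have hk : M ⊔ zpowers x ≤ (centralizer {(g : X ⧸ R)}).comap (QuotientGroup.mk' R) :=
        sup_le (fun m hm => mem_centralizer_singleton_iff.mpr (hg m hm).symm)
          (zpowers_le.mpr (mem_centralizer_singleton_iff.mpr hgx.symm))
      exact mem_centralizer_singleton_iff.mp (hk (htop ▸ mem_top k))
    have hxm : ∀ m ∈ M, (x : X ⧸ R) * (m : X ⧸ R) = (m : X ⧸ R) * (x : X ⧸ R) := by
      intro m hm
      rw [← QuotientGroup.mk_mul, ← QuotientGroup.mk_mul]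
      refine (QuotientGroup.eq.mpr ?_).symm
      refine Normal.mem_comm hRn ?_
      refine ⟨_, ⟨⟨m, hm⟩, rfl⟩, ?_⟩
      show x * m * x⁻¹ * m⁻¹ = x * m * (m * x)⁻¹
      group
    have hx' : (x : X ⧸ R) ∈ center (X ⧸ R) := hgen x hxm rfl
    refine ⟨⟨fun a b => ?_⟩⟩
    obtain ⟨g, rfl⟩ := QuotientGroup.mk_surjective a
    have hall : M ⊔ zpowers x ≤ (center (X ⧸ R)).comap (QuotientGroup.mk' R) :=
      sup_le (fun m hm => hgen m (fun m' hm' => by
        rw [← QuotientGroup.mk_mul, ← QuotientGroup.mk_mul, (hcm hm hm').eq]) (hxm m hm).symm)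
        (zpowers_le.mpr hx')
    exact (mem_center_iff.mp (hall (htop ▸ mem_top g)) b).symm
  have hker : Nat.card φ.ker ≤ 2 := by
    have h1 : Nat.card φ.ker * Nat.card φ.range = Nat.card M := by
      rw [← index_ker, card_mul_index]
    have h2 : Nat.card (commutator X) ≤ Nat.card φ.range := by
      rw [← card_map_of_injective M.subtype_injective]; exact card_le_of_le hle
    have h3 := (commutator X).card_mul_index
    rw [h4, ← M.card_mul_index, hM] at h3
    refine Nat.le_of_mul_le_mul_right ?_ (Nat.card_pos (α := commutator X))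
    calc Nat.card φ.ker * Nat.card (commutator X) ≤ Nat.card φ.ker * Nat.card φ.range :=
          Nat.mul_le_mul_left _ h2
      _ = Nat.card M := h1
      _ ≤ 2 * Nat.card (commutator X) := by omega
  refine le_trans ?_ hker
  refine Nat.card_le_card_of_injective
    (fun t => ⟨⟨(t : X), t.2.1⟩, Subtype.ext ?_⟩) fun a b h => ?_
  · show x * (t : X) * x⁻¹ * (t : X)⁻¹ = 1
    rw [(mem_centralizer_singleton_iff.mp t.2.2).symm, mul_inv_cancel_right, mul_inv_cancel]
  · exact Subtype.ext (congrArg (fun k : φ.ker => ((k : M) : X)) h)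

/-- A `2`-group with commutator factor group of order four has a cyclic maximal subgroup. -/
theorem exists_orderOf_eq_of_commutator_index :
    ∀ (n : ℕ) {X : Type*} [Group X] [Finite X], 3 ≤ n → Nat.card X = 2 ^ n →
      (commutator X).index = 4 → ∃ c : X, orderOf c = 2 ^ (n - 1) := by
  intro n
  induction n with
  | zero => intro X _ _ h; omega
  | succ n ih =>
  intro X _ _ hn hX h4
  have hp : IsPGroup 2 X := IsPGroup.of_card hX
  have hcard : Nat.card (commutator X) = 2 ^ (n - 1) := by
    have := (commutator X).card_mul_index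
    rw [h4, hX] at this
    obtain ⟨m, rfl⟩ : ∃ m, n = m + 1 := ⟨n - 1, by omega⟩
    rw [pow_succ, pow_succ] at this
    simp only [Nat.add_sub_cancel]
    omega
  have hne : commutator X ≠ ⊥ := fun h => by
    rw [h, card_bot] at hcard
    have : 2 ^ 1 ≤ 2 ^ (n - 1) := Nat.pow_le_pow_right two_pos (by omega)
    omega
  rcases Nat.lt_or_ge n 3 with hn3 | hn3
  · obtain rfl : n = 2 := by omega
    by_contra hno
    push Not at hno
    refine hne ?_
    have hsq : ∀ g : X, g * g = 1 := by
      intro g
      obtain ⟨i, hi, hg⟩ := (Nat.dvd_prime_pow Nat.prime_two).mp (hX ▸ orderOf_dvd_natCard g)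
      have hi2 : i ≠ 2 := fun h => hno g (by rw [hg, h])
      have hi3 : i ≠ 3 := fun h => hno (g ^ 2) (by
        rw [orderOf_pow' g two_ne_zero, hg, h]; norm_num)
      rw [← pow_two, ← orderOf_dvd_iff_pow_eq_one, hg, show 2 = 2 ^ 1 from rfl, ← pow_mul, one_mul]
      exact pow_dvd_pow 2 (by omega)
    have hinv : ∀ g : X, g⁻¹ = g := fun g => inv_eq_of_mul_eq_one_right (hsq g)
    rw [_root_.commutator_def, commutator_eq_bot_iff_le_centralizer]
    refine fun a _ => mem_centralizer_iff.mpr fun b _ => ?_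
    calc b * a = (b * a)⁻¹ := (hinv _).symm
      _ = a * b := by rw [mul_inv_rev, hinv, hinv]
  -- a central subgroup of order two inside the derived group
  obtain ⟨z, ⟨hzc, hzz⟩, hz1, hz2⟩ :=
    exists_mem_pow_eq_one hp (inf_center_ne_bot hp (N := commutator X) hne)
  set Z : Subgroup X := zpowers z with hZ
  have hZle : Z ≤ center X := zpowers_le.mpr hzz
  haveI : Z.Normal := ⟨fun a ha g => by
    rw [mem_center_iff.mp (hZle ha) g, mul_inv_cancel_right]; exact ha⟩
  have hZcard : Nat.card Z = 2 := by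
    rw [hZ, Nat.card_zpowers]
    exact orderOf_eq_prime hz2 hz1
  set π := QuotientGroup.mk' Z with hπ
  have hπker : π.ker = Z := QuotientGroup.ker_mk' Z
  have hQcard : Nat.card (X ⧸ Z) = 2 ^ n := by
    have := Z.card_eq_card_quotient_mul_card_subgroup
    rw [hX, hZcard, pow_succ] at this
    omega
  have hQ4 : (commutator (X ⧸ Z)).index = 4 := by
    have hsurj : Function.Surjective π := QuotientGroup.mk'_surjective Z
    have hcm : (commutator X).map π = commutator (X ⧸ Z) := by
      rw [map_commutator_eq, π.range_eq_top_of_surjective hsurj]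
      rfl
    rw [← hcm, index_map_eq _ hsurj (hπker.le.trans (zpowers_le.mpr hzc))]
    exact h4
  obtain ⟨cq, hcq⟩ := ih hn3 hQcard hQ4
  obtain ⟨c, rfl⟩ := QuotientGroup.mk'_surjective Z cq
  have hdvd : 2 ^ (n - 1) ∣ orderOf c := hcq ▸ orderOf_map_dvd π c
  have hdvd' : orderOf c ∣ 2 ^ n := by
    refine orderOf_dvd_of_pow_eq_one ?_
    obtain ⟨m, rfl⟩ : ∃ m, n = m + 1 := ⟨n - 1, by omega⟩
    simp only [Nat.add_sub_cancel] at hcq
    have hmem : c ^ 2 ^ m ∈ Z := by
      rw [← hπker, MonoidHom.mem_ker, map_pow, ← hcq, pow_orderOf_eq_one]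
    have h2 : (⟨_, hmem⟩ : Z) ^ 2 = 1 := (congrArg _ hZcard.symm).trans pow_card_eq_one'
    rw [pow_succ, pow_mul]
    exact congrArg Subtype.val h2
  obtain ⟨i, hi, hord⟩ := (Nat.dvd_prime_pow Nat.prime_two).mp hdvd'
  rw [hord] at hdvd
  have hi' := Nat.pow_dvd_pow_iff_le_right'.mp (hdvd)
  rcases (show i = n ∨ i = n - 1 by omega) with rfl | rfl
  · exact ⟨c, by rw [hord, Nat.add_sub_cancel]⟩
  exfalso
  -- the preimage of the cyclic subgroup would be `⟨c⟩ × Z`
  set M : Subgroup X := zpowers c ⊔ Z with hM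
  have hMc : IsMulCommutative M := by
    rw [← le_centralizer_iff_isMulCommutative]
    refine sup_le (zpowers_le.mpr ?_) (hZle.trans (center_le_centralizer _))
    have : M ≤ centralizer {c} :=
      sup_le (zpowers_le.mpr (mem_centralizer_singleton_iff.mpr rfl))
        (hZle.trans (center_le_centralizer _))
    exact mem_centralizer_iff.mpr fun m hm => mem_centralizer_singleton_iff.mp (this hm)
  have hMi : M.index = 2 := by
    have hsurj := QuotientGroup.mk'_surjective Z
    have hMeq : M = (zpowers (π c)).comap π := by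
      rw [← MonoidHom.map_zpowers, comap_map_eq, hπker]
    rw [hMeq, index_comap_of_surjective _ hsurj]
    have := (zpowers (π c)).card_mul_index
    rw [Nat.card_zpowers, hcq, hQcard, show n = n - 1 + 1 by omega, pow_succ,
      Nat.add_sub_cancel] at this
    exact Nat.eq_of_mul_eq_mul_left (pow_pos two_pos _) this
  obtain ⟨x, hx⟩ : ∃ x, x ∉ M := by
    by_contra h
    push Not at h
    rw [(eq_top_iff' M).mpr h, index_top] at hMi
    omega
  set e := c ^ 2 ^ (n - 2) with he
  have he2 : e ^ 2 = 1 := by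
    rw [he, ← pow_mul, ← pow_succ, show n - 2 + 1 = n - 1 by omega, ← hord, pow_orderOf_eq_one]
  have heZ : e ∉ Z := by
    intro h
    rw [← hπker, MonoidHom.mem_ker, he, map_pow, ← orderOf_dvd_iff_pow_eq_one, hcq,
      Nat.pow_dvd_pow_iff_le_right (by norm_num)] at h
    omega
  have hcM : c ∈ M := mem_sup_left (mem_zpowers c)
  haveI : M.Normal := normal_of_index_eq_two hMi
  have hfix : x * e * x⁻¹ = e := by
    obtain ⟨a, ⟨j, rfl⟩, w, hw, haw⟩ :=
      mem_sup_of_normal_right.mp (Normal.conj_mem (H := M) inferInstance c hcM x)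
    have hw2 : w ^ 2 = 1 := by
      have h2 : (⟨w, hw⟩ : Z) ^ 2 = 1 := by rw [← hZcard]; exact pow_card_eq_one'
      exact congrArg Subtype.val h2
    have hxe : x * e * x⁻¹ = e ^ j := by
      rw [he, ← conj_pow, ← haw,
        (show Commute (c ^ j) w from mem_center_iff.mp (hZle hw) _).mul_pow,
        ← zpow_natCast (c ^ j), zpow_comm, zpow_natCast,
        show n - 2 = n - 3 + 1 by omega, pow_succ, pow_mul' w, hw2, one_pow, mul_one]
    rcases Int.even_or_odd j with ⟨k, rfl⟩ | ⟨k, rfl⟩
    · exfalso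
      rw [← two_mul, zpow_mul, zpow_two, ← pow_two, he2, one_zpow] at hxe
      exact heZ (by rw [show e = 1 by simpa using hxe]; exact one_mem _)
    · rw [hxe, zpow_add_one, zpow_mul, zpow_two, ← pow_two, he2, one_zpow, one_mul]
  have hle := card_inf_centralizer_le_two hMc hMi h4 hx
  set F : Subgroup X := M ⊓ centralizer ({x} : Set X) with hF
  have heF : e ∈ F :=
    ⟨pow_mem hcM _, mem_centralizer_singleton_iff.mpr (mul_inv_eq_iff_eq_mul.mp hfix).symm⟩
  have hZF : Z ≤ F := le_inf le_sup_right (hZle.trans (center_le_centralizer _))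
  have heq : Z = F := eq_of_le_of_card_ge hZF (hZcard.symm ▸ hle)
  exact heZ (heq ▸ heF)

/-- The structure of a `2`-group with commutator factor group of order four. -/
theorem structure_of_commutator_index {n : ℕ} (hn : 3 ≤ n) (hX : Nat.card X = 2 ^ n)
    (h4 : (commutator X).index = 4) :
    ∃ c x : X, orderOf c = 2 ^ (n - 1) ∧ (zpowers c).index = 2 ∧ x ∉ zpowers c ∧
      zpowers c ⊓ centralizer ({x} : Set X) = center X ∧ Nat.card (center X) = 2 ∧
      Nat.card (centralizer ({x} : Set X) : Subgroup X) = 4 := by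
  have hp : IsPGroup 2 X := IsPGroup.of_card hX
  obtain ⟨c, hc⟩ := exists_orderOf_eq_of_commutator_index n hn hX h4
  set C : Subgroup X := zpowers c with hC
  have hCcard : Nat.card C = 2 ^ (n - 1) := by rw [hC, Nat.card_zpowers, hc]
  have hCi : C.index = 2 := by
    have := C.card_mul_index
    rw [hCcard, hX, show n = n - 1 + 1 by omega, pow_succ, Nat.add_sub_cancel] at this
    exact Nat.eq_of_mul_eq_mul_left (pow_pos two_pos _) this
  obtain ⟨x, hx⟩ : ∃ x, x ∉ C := by
    by_contra h
    push Not at h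
    rw [(eq_top_iff' C).mpr h, index_top] at hCi
    omega
  have hfix : ∀ y ∉ C, Nat.card (C ⊓ centralizer ({y} : Set X) : Subgroup X) ≤ 2 := fun y hy =>
    card_inf_centralizer_le_two inferInstance hCi h4 hy
  have hZC : center X ≤ C := by
    intro y hy
    by_contra hyC
    have h2 := hfix y hyC
    have heq : C ⊓ centralizer ({y} : Set X) = C :=
      inf_eq_left.mpr fun t _ => mem_centralizer_singleton_iff.mpr (mem_center_iff.mp hy t)
    rw [heq, hCcard] at h2
    have : 2 ^ 2 ≤ 2 ^ (n - 1) := Nat.pow_le_pow_right two_pos (by omega)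
    omega
  have hZ2 : 2 ≤ Nat.card (center X) := by
    refine le_card_of_ne_bot hp ?_
    haveI : Nontrivial X := Finite.one_lt_card_iff_nontrivial.mp
      (hX ▸ Nat.one_lt_pow (by omega) one_lt_two)
    haveI := hp.center_nontrivial
    exact (center X).nontrivial_iff_ne_bot.mp inferInstance
  have hle : center X ≤ C ⊓ centralizer ({x} : Set X) := le_inf hZC (center_le_centralizer _)
  have heq : C ⊓ centralizer ({x} : Set X) = center X :=
    (eq_of_le_of_card_ge hle ((hfix x hx).trans hZ2)).symm
  have hcz : Nat.card (center X) = 2 :=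
    le_antisymm ((card_le_of_le hle).trans (hfix x hx)) hZ2
  refine ⟨c, x, hc, hCi, hx, heq, hcz, ?_⟩
  set K : Subgroup X := centralizer ({x} : Set X) with hK
  have hr : C.relIndex K ∣ 2 := by
    haveI : C.Normal := normal_of_index_eq_two hCi
    exact hCi ▸ relIndex_dvd_index_of_normal C K
  have hr1 : C.relIndex K ≠ 1 := fun h =>
    hx (relIndex_eq_one.mp h (mem_centralizer_singleton_iff.mpr rfl))
  have h1 := relIndex_mul_relIndex ⊥ (C ⊓ K) K bot_le inf_le_right
  rw [relIndex_bot_left, relIndex_bot_left, inf_relIndex_right,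
    ((Nat.dvd_prime Nat.prime_two).mp hr).resolve_left hr1, heq, hcz] at h1
  exact h1.symm

/-- Maximal class follows from a commutator factor group of order four. -/
theorem nilpotencyClass_of_commutator_index {n : ℕ} (hn : 3 ≤ n) (hX : Nat.card X = 2 ^ n)
    (h4 : (commutator X).index = 4) : Group.nilpotencyClass X = n - 1 := by
  obtain ⟨c, x, -, -, -, -, -, hK⟩ := structure_of_commutator_index hn hX h4
  haveI : Fact (Nat.Prime 2) := ⟨Nat.prime_two⟩
  set A : Subgroup X := centralizer ({x} : Set X) with hA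
  have hA' : IsMulCommutative A := FG78.isMulCommutative_of_card_sq (p := 2) (by rw [hK]; norm_num)
  refine FG78.suzuki_maximal_class n hX A (by rw [hK]; norm_num) (le_antisymm ?_ ?_)
  · intro y hy
    exact mem_centralizer_singleton_iff.mpr
      (mem_centralizer_iff.mp hy x (mem_centralizer_singleton_iff.mpr rfl)).symm
  · exact le_centralizer_iff_isMulCommutative.mpr hA'

/-- Maximal class forces a Klein four commutator factor group. -/
theorem commutator_index_of_nilpotencyClass {n : ℕ} (hn : 3 ≤ n) (hX : Nat.card X = 2 ^ n)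
    (hc : Group.nilpotencyClass X = n - 1) : (commutator X).index = 4 := by
  have hp : IsPGroup 2 X := IsPGroup.of_card hX
  haveI := hp.isNilpotent
  haveI : Fact (Nat.Prime 2) := ⟨Nat.prime_two⟩
  set γ := Subgroup.lowerCentralSeries (⊤ : Subgroup X) with hγ
  have hne : γ (n - 2) ≠ ⊥ := by
    intro h
    have h1 : Group.nilpotencyClass X ≤ n - 2 := Subgroup.lowerCentralSeries_eq_bot_iff_nilpotencyClass_le.mp h
    omega
  have key : ∀ j, j ≤ n - 2 → 2 ^ (n - 1 - j) ≤ Nat.card (γ j) := by
    intro j hj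
    obtain ⟨d, hd⟩ : ∃ d, d = n - 2 - j := ⟨_, rfl⟩
    induction d generalizing j with
    | zero =>
      obtain rfl : j = n - 2 := by omega
      rw [show n - 1 - (n - 2) = 1 by omega, pow_one]
      exact le_card_of_ne_bot hp hne
    | succ d ih =>
      have h1 := ih (j + 1) (by omega) (by omega)
      have hj1 : γ j ≠ ⊥ := fun hb => by
        apply hne
        exact le_bot_iff.mp (hb ▸ Subgroup.lowerCentralSeries_antitone _ (by omega))
      have hlt : γ (j + 1) < γ j := by
        refine lt_of_le_of_ne (Subgroup.lowerCentralSeries_antitone _ (Nat.le_succ j)) fun h => hj1 ?_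
        exact Transfer.eq_bot_of_le_commutator_top (h.ge.trans (le_of_eq rfl))
      obtain ⟨a, ha⟩ := exists_card_eq_pow hp (γ (j + 1))
      obtain ⟨b, hb⟩ := exists_card_eq_pow hp (γ j)
      have hlt' : Nat.card (γ (j + 1)) < Nat.card (γ j) :=
        lt_of_not_ge fun hge => hlt.ne (eq_of_le_of_card_ge hlt.le hge)
      rw [ha] at h1 hlt'
      rw [hb] at hlt' ⊢
      have hab := (Nat.pow_lt_pow_iff_right one_lt_two).mp hlt'
      have hle := (Nat.pow_le_pow_iff_right one_lt_two).mp h1
      exact Nat.pow_le_pow_right two_pos (by omega)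
  have h1 := key 1 (by omega)
  have hγ1 : γ 1 = commutator X := rfl
  rw [hγ1] at h1
  have h2 := (commutator X).card_mul_index
  have hge : ¬ (commutator X).index ≤ 2 := by
    intro hle
    have hfr : (frattini X).index ≤ 2 := le_trans
      (Nat.le_of_dvd (Nat.pos_of_ne_zero index_ne_zero_of_finite)
        (index_dvd_of_le (commutator_le_frattini hp))) hle
    haveI := isCyclic_of_index_frattini_le hp hfr
    have hb : commutator X = ⊥ := by
      rw [_root_.commutator_def, commutator_eq_bot_iff_le_centralizer]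
      exact fun a _ => mem_centralizer_iff.mpr fun b _ => mul_comm' b a
    rw [hb, card_bot] at h1
    have : 2 ^ 1 ≤ 2 ^ (n - 1 - 1) := Nat.pow_le_pow_right two_pos (by omega)
    omega
  obtain ⟨i, hi⟩ := hp.index (commutator X)
  rw [hX, hi] at h2
  rw [hi] at hge ⊢
  obtain ⟨a, ha⟩ := exists_card_eq_pow hp (commutator X)
  rw [ha] at h1 h2
  have h3 := (Nat.pow_le_pow_iff_right one_lt_two).mp h1
  rw [← pow_add] at h2
  have h4 := Nat.pow_right_injective (le_refl 2) h2
  have hi2 : 2 ≤ i := by
    by_contra h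
    apply hge
    calc 2 ^ i ≤ 2 ^ 1 := Nat.pow_le_pow_right two_pos (by omega)
      _ = 2 := rfl
  obtain rfl : i = 2 := by omega
  rfl

/-- A commutator factor group of order four of a `2`-group of order at least eight is Klein four. -/
theorem isKleinFour_of_commutator_index {n : ℕ} (hn : 3 ≤ n) (hX : Nat.card X = 2 ^ n)
    (h4 : (commutator X).index = 4) : IsKleinFour (X ⧸ commutator X) := by
  haveI : Fact (Nat.Prime 2) := ⟨Nat.prime_two⟩
  have hp : IsPGroup 2 X := IsPGroup.of_card hX
  have hcard : Nat.card (X ⧸ commutator X) = 4 := by rw [← index_eq_card]; exact h4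
  refine ⟨hcard, ?_⟩
  have hncyc : ¬ IsCyclic (X ⧸ commutator X) := by
    intro hc
    let f : X ⧸ commutator X →* X ⧸ frattini X :=
      QuotientGroup.map (commutator X) (frattini X) (MonoidHom.id X) (commutator_le_frattini hp)
    have hf : Function.Surjective f := fun q => by
      obtain ⟨g, rfl⟩ := QuotientGroup.mk_surjective q
      exact ⟨g, rfl⟩
    haveI : IsCyclic (X ⧸ frattini X) := isCyclic_of_surjective f hf
    haveI := isCyclic_of_quotient_frattini_cyclic (G := X)
    have hb : commutator X = ⊥ := by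
      rw [_root_.commutator_def, commutator_eq_bot_iff_le_centralizer]
      exact fun a _ => mem_centralizer_iff.mpr fun b _ => mul_comm' b a
    rw [hb, index_bot, hX] at h4
    have : 2 ^ 3 ≤ 2 ^ n := Nat.pow_le_pow_right two_pos hn
    omega
  obtain ⟨k, hk, hexp⟩ := (Nat.dvd_prime_pow Nat.prime_two).mp
    (show Monoid.exponent (X ⧸ commutator X) ∣ 2 ^ 2 from
      Group.exponent_dvd_nat_card.trans (by rw [hcard]; norm_num))
  interval_cases k
  · have := Monoid.exp_eq_one_iff.mp (show Monoid.exponent (X ⧸ commutator X) = 1 by simpa using hexp)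
    rw [Nat.card_unique] at hcard
    omega
  · simpa using hexp
  · exfalso
    letI : CommGroup (X ⧸ commutator X) :=
      { (inferInstance : Group (X ⧸ commutator X)) with
        mul_comm := fun a b => mul_comm (G := Abelianization X) a b }
    exact hncyc (IsCyclic.of_exponent_eq_card (hexp.trans (by rw [hcard]; norm_num)))

end Cfsg.Agent.PGroup
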